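import Cfsg.Agent.Fus.Mx2

/-! Blackburn's theorem on the two-step centralizers of a `p`-group of maximal class (helper26). -/

set_option autoImplicit false

namespace Cfsg.Agent.Fus

open Subgroup Cfsg.Agent.BG
open scoped commutatorElement

variable {G : Type*} [Group G] {p n i j k : ℕ} {x y a b : G}

theorem mxe_γγ (ha : a ∈ γ G j) (hb : b ∈ γ G k) : ⁅a, b⁆ ∈ γ G (j + k + 1) :=
  Gen2.lcs_comm_le ⊤ k j (commutator_mem_commutator ha hb)

theorem mxe_jac0 {Q : Type*} [Group Q] {x a b : Q} (h1 : Commute ⁅a, b⁆ ⁅x, a⁆) (h2 : Commute ⁅a, b⁆ ⁅x, b⁆)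
    (h3 : ∀ g, Commute g ⁅a, ⁅x, b⁆⁆) (h4 : ∀ g, Commute g ⁅⁅x, a⁆, b⁆) (h5 : ⁅⁅x, a⁆, ⁅x, b⁆⁆ = 1) :
    ⁅x, ⁅a, b⁆⁆ = ⁅a, ⁅x, b⁆⁆ * ⁅⁅x, a⁆, b⁆ := by
  have e : x * ⁅a, b⁆ * x⁻¹ = ⁅x, a⁆ * (⁅a, ⁅x, b⁆⁆ * (⁅x, b⁆ * ⁅a, b⁆ * ⁅x, b⁆⁻¹)) * ⁅x, a⁆⁻¹ *
      (⁅⁅x, a⁆, ⁅x, b⁆⁆ * (⁅x, b⁆ * ⁅⁅x, a⁆, b⁆ * ⁅x, b⁆⁻¹)) := by
    simp only [commutatorElement_def]; group
  rw [h5, one_mul, (h4 _).eq, mul_inv_cancel_right, ← h2.eq, mul_inv_cancel_right, ← mul_assoc ⁅x, a⁆, (h3 _).eq,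
    mul_assoc _ ⁅x, a⁆, ← h1.eq, ← mul_assoc _ ⁅a, b⁆, mul_inv_cancel_right, mul_assoc, (h4 _).eq, ← mul_assoc] at e
  rw [commutatorElement_def x, e, ← mul_assoc, mul_inv_cancel_right, (h3 _).eq]

theorem mxe_mk {N : Subgroup G} [N.Normal] (a b : G) : ((⁅a, b⁆ : G) : G ⧸ N) = ⁅(a : G ⧸ N), (b : G ⧸ N)⁆ := rfl

theorem mxe_cen (ha : a ∈ γ G j) (g : G ⧸ γ G (j + 1)) : Commute g (a : G ⧸ γ G (j + 1)) := by
  obtain ⟨g, rfl⟩ := QuotientGroup.mk_surjective g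
  exact commutatorElement_eq_one_iff_commute.1 ((QuotientGroup.eq_one_iff _).2 (comm_mem_γ g ha))

theorem mxe_jac (x : G) (ha : a ∈ γ G j) (hb : b ∈ γ G k) {w : ℕ} (hw : j + k + 2 = w) :
    ((⁅x, ⁅a, b⁆⁆ : G) : G ⧸ γ G (w + 1)) = (⁅a, ⁅x, b⁆⁆ : G) * (⁅⁅x, a⁆, b⁆ : G) := by
  subst hw
  have ha' := comm_mem_γ x ha
  have hb' := comm_mem_γ x hb
  have hab := mxe_γγ ha hb
  simp only [mxe_mk]
  refine mxe_jac0 ?_ ?_ (fun g => ?_) (fun g => ?_) ?_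
  · exact commutatorElement_eq_one_iff_commute.1 ((QuotientGroup.eq_one_iff _).2 (γ_anti (by omega) (mxe_γγ hab ha')))
  · exact commutatorElement_eq_one_iff_commute.1 ((QuotientGroup.eq_one_iff _).2 (γ_anti (by omega) (mxe_γγ hab hb')))
  · exact mxe_cen (γ_anti (by omega) (mxe_γγ ha hb')) g
  · exact mxe_cen (γ_anti (by omega) (mxe_γγ ha' hb)) g
  · exact (QuotientGroup.eq_one_iff _).2 (γ_anti (by omega) (mxe_γγ ha' hb'))

/-- the sequence `s₀, ⁅x, s₀⁆, …` -/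
def mxs (x a : G) : ℕ → G
  | 0 => a
  | j + 1 => ⁅x, mxs x a j⁆

theorem mxs_mem (x a : G) : ∀ j, mxs x a j ∈ γ G j
  | 0 => trivial
  | j + 1 => comm_mem_γ x (mxs_mem x a j)

variable [Finite G] [hp : Fact p.Prime]

theorem MX.mxs_not (h : MX p G n) (hx : Unif n x) (hn : 2 ≤ n) (ha : a ∈ K2 G 1) (ha' : a ∉ γ G 1) :
    ∀ j, j ≤ n → mxs x a j ∉ γ G (j + 1)
  | 0, _ => ha'
  | j + 1, hj => h.delta hx (by omega) (mxs_mem x a j) (h.mxs_not hx hn ha ha' j (by omega)) fun e k => by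
      subst e
      exact h.K2_ne_top (i := 1) (by omega) (by
        by_contra hc
        obtain ⟨u, hu, m, e⟩ := (PGrp.mem_sup_zpowers (norm_of_normal _ ⊤ trivial)).1 k
        have e' : u * x ^ m = a := e
        exact absurd (PGrp.dvd_of_zpow_mem hp.out (hx.2 1 le_rfl (by omega)) (γ_le_K2 1 (h.pow_mem_one (by omega) x))
          ((mul_mem_cancel_left (γ_le_K2 1 hu)).1 (e' ▸ ha))) fun ⟨c, hc⟩ => ha' (by
            rw [← e', hc, zpow_mul, zpow_natCast]; exact mul_mem hu (zpow_mem (h.pow_mem_one (by omega) x) c)))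

omit [Finite G] hp in
/-- the sign rule one level above a level of positive degree of commutativity -/
theorem mxs_step {w : ℕ} (H : ∀ j k, j + k = w → ⁅mxs x a j, mxs x a k⁆ ∈ γ G (w + 2)) (e : j + k = w) :
    ((⁅mxs x a (j + 1), mxs x a k⁆ : G) : G ⧸ γ G (w + 3)) = ((⁅mxs x a j, mxs x a (k + 1)⁆ : G) : G ⧸ γ G (w + 3))⁻¹ := by
  have := mxe_jac x (mxs_mem x a j) (mxs_mem x a k) (w := w + 2) (by omega)
  rw [(QuotientGroup.eq_one_iff _).2 (comm_mem_γ x (H j k e))] at this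
  exact eq_inv_of_mul_eq_one_right this.symm

omit [Finite G] hp in
theorem mxs_iff {w : ℕ} (H : ∀ j k, j + k = w → ⁅mxs x a j, mxs x a k⁆ ∈ γ G (w + 2)) :
    ∀ j k, j + k = w + 1 → (⁅mxs x a j, mxs x a k⁆ ∈ γ G (w + 3) ↔ ⁅a, mxs x a (w + 1)⁆ ∈ γ G (w + 3))
  | 0, k, e => by rw [show k = w + 1 by omega]; rfl
  | j + 1, k, e => by
      rw [← mxs_iff H j (k + 1) (by omega), ← QuotientGroup.eq_one_iff, ← QuotientGroup.eq_one_iff,
        mxs_step H (by omega), inv_eq_one]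

omit [Finite G] hp in
theorem mxs_pos (H : ∀ j, 1 ≤ j → j < i → a ∈ K2 G j) :
    ∀ w, w < i → ∀ j k, j + k = w → ⁅mxs x a j, mxs x a k⁆ ∈ γ G (w + 2)
  | 0, _, j, k, e => by
      rw [show j = 0 by omega, show k = 0 by omega, commutatorElement_self]; exact one_mem _
  | w + 1, hw, j, k, e => (mxs_iff (mxs_pos H w (by omega)) j k e).2 (H (w + 1) (by omega) hw _ (mxs_mem x a _))

theorem MX.K2_iff (h : MX p G n) (hn : 2 ≤ n) (ha : a ∈ K2 G 1) (ha' : a ∉ γ G 1) (hi : a ∈ K2 G i) :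
    K2 G 1 ≤ K2 G i := fun g hg => by
  by_contra hc
  have h1 : g ∉ γ G 1 ⊔ zpowers a := fun k => hc (sup_le (γ_le_K2 i) (zpowers_le.2 hi) k)
  exact h.K2_ne_top (i := 1) (by omega) (h.eq_top ha' h1 (γ_le_K2 1) ha hg)

/-- At the first level `i` where the two-step centralizer changes, `i` is odd and `i + 1 = n`. -/
theorem MX.first (h : MX p G n) (hi : 1 ≤ i) (hin : i < n) (H : ∀ j, 1 ≤ j → j < i → K2 G 1 ≤ K2 G j)
    (hne : ¬ K2 G 1 ≤ K2 G i) : Odd i ∧ i + 1 = n ∧ 3 ≤ i ∧ ∃ a ∈ γ G 1, ∃ b ∈ γ G (i - 1), ⁅a, b⁆ ∉ γ G (i + 2) := by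
  have h1 : i ≠ 1 := by rintro rfl; exact hne le_rfl
  have h2 : i ≠ 2 := by rintro rfl; exact hne (K2_one_le h)
  obtain ⟨x, hx⟩ := h.exists_unif
  obtain ⟨a, ha, ha'⟩ := h.exists_K2 (i := 1) le_rfl (by omega)
  have hn : 2 ≤ n := by omega
  have H' : ∀ j, 1 ≤ j → j < i → a ∈ K2 G j := fun j k l => H j k l ha
  have N := h.mxs_not hx hn ha ha'
  obtain ⟨w, rfl⟩ : ∃ w, i = w + 1 := ⟨i - 1, by omega⟩
  have P := mxs_pos (x := x) H' w (by omega)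
  have hb : ∀ j k, j + k = w + 1 → ⁅mxs x a j, mxs x a k⁆ ∉ γ G (w + 3) := fun j k e c =>
    hne (h.K2_iff hn ha ha' (h.mem_K2 hi (mxs_mem x a _) (N _ hin.le) ((mxs_iff P j k e).1 c)))
  have hodd : Odd (w + 1) := by
    rw [← Nat.not_even_iff_odd]
    rintro ⟨m, hm⟩
    exact hb m m hm.symm (by rw [commutatorElement_self]; exact one_mem _)
  refine ⟨hodd, by_contra fun hc => ?_, by omega, _, mxs_mem x a 1, _, mxs_mem x a w, hb 1 w (by omega)⟩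
  obtain ⟨m, hm⟩ := hodd
  have hm1 : 1 ≤ m := by omega
  have mem : ∀ j k, j + k = w + 1 → ⁅mxs x a j, mxs x a k⁆ ∈ γ G (w + 2) := fun j k e => by
    have := mxe_γγ (mxs_mem x a j) (mxs_mem x a k)
    rwa [e] at this
  -- `a` lies in the next two-step centralizer
  have hK : a ∈ K2 G (w + 2) := by
    refine h.mem_K2 (by omega) (mem m (m + 1) (by omega)) (hb m (m + 1) (by omega)) ?_
    have := mxe_jac a (mxs_mem x a m) (mxs_mem x a (m + 1)) (w := w + 3) (by omega)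
    rw [(QuotientGroup.eq_one_iff _).2 (γ_anti (by omega) (mxe_γγ (mxs_mem x a m)
      (H' (m + 1) (by omega) (by omega) _ (mxs_mem x a _)))), (QuotientGroup.eq_one_iff _).2 (γ_anti (by omega)
        (mxe_γγ (H' m hm1 (by omega) _ (mxs_mem x a _)) (mxs_mem x a (m + 1)))), one_mul] at this
    exact (QuotientGroup.eq_one_iff _).1 this
  let c : ℕ → G ⧸ γ G (w + 4) := fun j => (⁅x, ⁅mxs x a j, mxs x a (w + 1 - j)⁆⁆ : G)
  have hc' : ∀ j, j ≤ w → c (j + 1) = (c j)⁻¹ := fun j hj => by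
    have e := mxs_step P (j := j) (k := w - j) (by omega)
    rw [← QuotientGroup.mk_inv, QuotientGroup.eq] at e
    simp only [c]
    rw [show w + 1 - (j + 1) = w - j by omega, show w + 1 - j = w - j + 1 by omega]
    set u := ⁅mxs x a (j + 1), mxs x a (w - j)⁆
    set v := ⁅mxs x a j, mxs x a (w - j + 1)⁆ with hv
    have hv' : v ∈ γ G (w + 2) := mem _ _ (by omega)
    have e2 : ⁅x, u⁆ = ⁅x, v⁻¹⁆ * (v⁻¹ * ⁅x, (u⁻¹ * v⁻¹)⁻¹⁆ * v⁻¹⁻¹) := by
      simp only [commutatorElement_def]; group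
    rw [e2, QuotientGroup.mk_mul, (QuotientGroup.eq_one_iff _).2 (Normal.conj_mem inferInstance _
      (comm_mem_γ x (inv_mem e)) _), mul_one, show ⁅x, v⁻¹⁆ = v⁻¹ * ⁅x, v⁆⁻¹ * v by
        simp only [commutatorElement_def]; group, QuotientGroup.mk_mul, QuotientGroup.mk_mul,
      (mxe_cen (inv_mem (comm_mem_γ x hv')) _).eq, QuotientGroup.mk_inv, QuotientGroup.mk_inv, inv_mul_cancel_right]
  have key : ∀ j, j ≤ w + 1 → ((⁅mxs x a j, mxs x a (w + 2 - j)⁆ : G) : G ⧸ γ G (w + 4)) * c j ^ j = 1 := by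
    intro j
    induction j with
    | zero =>
      intro _
      rw [pow_zero, mul_one]
      exact (QuotientGroup.eq_one_iff _).2 (hK _ (mxs_mem x a (w + 2)))
    | succ j ih =>
      intro hj
      have e := mxe_jac x (mxs_mem x a j) (mxs_mem x a (w + 1 - j)) (w := w + 3) (by omega)
      have e' : c j = ((⁅mxs x a j, mxs x a (w + 2 - j)⁆ : G) : G ⧸ γ G (w + 4)) *
          (⁅mxs x a (j + 1), mxs x a (w + 2 - (j + 1))⁆ : G) := by
        rw [show w + 2 - j = w + 1 - j + 1 by omega, show w + 2 - (j + 1) = w + 1 - j by omega]; exact e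
      rw [eq_inv_of_mul_eq_one_left (ih (by omega)), eq_comm, inv_mul_eq_iff_eq_mul] at e'
      rw [e', hc' j (by omega), ← pow_succ, inv_pow, mul_inv_cancel]
  have k1 := key (m + 1) (by omega)
  rw [show w + 2 - (m + 1) = m + 1 by omega, commutatorElement_self, QuotientGroup.mk_one, one_mul] at k1
  have hm' := mem (m + 1) (w + 1 - (m + 1)) (by omega)
  have k2 : c (m + 1) ≠ 1 := fun e => h.delta hx (i := w + 2) (by omega) hm' (hb _ _ (by omega)) (by omega)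
    ((QuotientGroup.eq_one_iff _).1 e)
  have k3 : c (m + 1) ^ p = 1 := (QuotientGroup.eq_one_iff _).2 (h.pow_mem_succ (by omega) (comm_mem_γ x hm'))
  have k4 : p ∣ m + 1 := by
    rw [← orderOf_eq_prime k3 k2]; exact orderOf_dvd_of_pow_eq_one k1
  have k5 := Nat.le_of_dvd (by omega) k4
  have k6 := hp.out.two_le
  have := (H (w + 2 - p) (by omega) (by omega)).trans (h.K2_le hx (j := w + 2 - p) (by omega) (by omega))
  rw [show w + 2 - p + p - 1 = w + 1 by omega] at this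
  exact hne this

theorem MX.K2_one_le_of (h : MX p G n) : ∀ i, 1 ≤ i → i + 1 < n → K2 G 1 ≤ K2 G i := by
  intro i
  induction i using Nat.strong_induction_on with
  | _ i ih =>
    intro h1 h2
    by_contra hc
    have := (h.first h1 (by omega) (fun j a b => ih j b a (by omega)) hc).2.1
    omega

theorem MX.K2_eq (h : MX p G n) (h1 : 1 ≤ i) (h2 : i + 1 < n) : K2 G i = K2 G 1 := by
  refine le_antisymm (fun g hg => by_contra fun hc => ?_) (h.K2_one_le_of i h1 h2)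
  exact h.K2_ne_top (i := i) (by omega) (h.eq_top_of_K2 (i := 1) le_rfl (by omega) (h.K2_one_le_of i h1 h2) hg hc)

theorem MX.exc (h : MX p G (n + 1)) (hn : 1 ≤ n) (hne : ¬ K2 G 1 ≤ K2 G n) :
    Odd n ∧ 3 ≤ n ∧ ∃ a ∈ γ G 1, ∃ b ∈ γ G (n - 1), ⁅a, b⁆ ≠ 1 := by
  obtain ⟨k1, -, k2, a, ha, b, hb, k3⟩ := h.first hn n.lt_succ_self (fun j a b => h.K2_one_le_of j a (by omega)) hne
  exact ⟨k1, k2, a, ha, b, hb, fun e => k3 (e ▸ one_mem _)⟩

end Cfsg.Agent.Fus
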