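import Cfsg.Agent.MxE.A
import Cfsg.Agent.Fus.Exs

/-! Ambient form of the structure of a `p`-group of maximal class (helper26). -/

set_option autoImplicit false

namespace Cfsg.Agent.Fus

open Subgroup Cfsg Cfsg.Agent.Loc Equiv
open Cfsg.FusionSystem (normalizerIn centralizerIn)
open scoped commutatorElement

variable {Ω : Type*} [Group Ω] {S Γ R A W : Subgroup Ω} {p m j k : ℕ} {a b e u v x y : Ω}

structure MCl (p : ℕ) (S Γ : Subgroup Ω) (m : ℕ) : Prop where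
  pg : IsPGroup p S
  m3 : 3 ≤ m
  cS : Nat.card S = p ^ (m + 2)
  cZ : ∀ k ≤ m, Nat.card (Zs S k) = p ^ k
  zz : ∀ j ≤ m, ∀ k ≤ m, ∀ a ∈ Zs S j, ∀ b ∈ Zs S k, ⁅a, b⁆ ∈ Zs S (j + k - (m + 2))
  der : ⁅S, S⁆ = Zs S m
  pw : ∀ a ∈ S, a ^ p ∈ Zs S m
  le : Γ ≤ S
  zle : Zs S m ≤ Γ
  ne : Γ ≠ S
  ne' : Γ ≠ Zs S m
  cne : centralizerIn S (Zs S 2) ≠ S
  cne' : centralizerIn S (Zs S 2) ≠ Zs S m
  g2 : ∀ a ∈ Γ, ∀ k, 1 ≤ k → k + 2 ≤ m → ∀ b ∈ Zs S (k + 2), ⁅a, b⁆ ∈ Zs S k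
  g3 : ∀ a ∈ S, ∀ k, 1 ≤ k → k + 2 ≤ m → ∀ b ∈ Zs S (k + 2), b ∉ Zs S (k + 1) → ⁅a, b⁆ ∈ Zs S k → a ∈ Γ
  g3' : ∀ a ∈ S, ∀ b ∈ Γ, b ∉ Zs S m → ⁅a, b⁆ ∈ Zs S (m - 1) → a ∈ Γ
  g4 : ∀ a ∈ S, ∀ b ∈ Zs S 2, b ∉ Zs S 1 → ⁅a, b⁆ = 1 → a ∈ centralizerIn S (Zs S 2)
  g5 : ∀ a ∈ S, a ∉ Γ → a ∉ centralizerIn S (Zs S 2) → ∀ A ≤ S, A ≤ centralizer {a} → Nat.card A ≤ p ^ 2
  g6 : ¬ Γ ≤ centralizerIn S (Zs S 2) → Even m ∧ 4 ≤ m ∧ ∃ a ∈ Zs S m, ∃ b ∈ Zs S 3, ⁅a, b⁆ ≠ 1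

variable [Finite S] [hp : Fact p.Prime]

theorem MX.mcl (h : MX p S m) (hm : 3 ≤ m) : MCl p S ((K2 S 1).map S.subtype) m := by
  have Z : ∀ k ≤ m, ∀ x : S, (x : Ω) ∈ Zs S k ↔ x ∈ γ S (m + 1 - k) := fun k hk x => by
    rw [Zs, h.ucs_eq k hk]; exact mem_map_iff_mem S.subtype_injective
  have Zm : ∀ x : S, (x : Ω) ∈ Zs S m ↔ x ∈ γ S 1 := fun x => by rw [Z m le_rfl, Nat.add_sub_cancel_left]
  have G : ∀ x : S, (x : Ω) ∈ (K2 S 1).map S.subtype ↔ x ∈ K2 S 1 := fun x => mem_map_iff_mem S.subtype_injective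
  obtain ⟨n, rfl⟩ : ∃ n, m = n + 1 := ⟨m - 1, by omega⟩
  have C : ∀ x : S, (x : Ω) ∈ centralizerIn S (Zs S 2) ↔ x ∈ K2 S n := fun x => by rw [← h.CZ_eq (by omega)]; rfl
  have L : ∀ k {x : Ω}, x ∈ Zs S k → x ∈ S := fun k _ hx => Zs_le S k hx
  refine ⟨h.pg, hm, h.card, fun k hk => ?_, fun j hj k hk a ha b hb => ?_, ?_, fun a ha => ?_, map_subtype_le _,
    fun a ha => ?_, fun e => ?_, fun e => ?_, (h.CZ_lt (by omega)).ne, fun e => ?_, fun a ha k h1 h2 b hb => ?_,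
    fun a ha k h1 h2 b hb hb' hc => ?_, fun a ha b hb hb' hc => ?_, fun a ha b hb hb' hc => ?_,
    fun a ha h1 h2 A hA hA' => ?_, fun hne => ?_⟩
  · rw [Zs, h.ucs_eq k hk, card_map_of_injective S.subtype_injective, show n + 1 + 1 - k = (n + 1 - k) + 1 by omega,
      h.card_γ (by omega), show n + 1 - (n + 1 - k) = k by omega]
  · have := mxe_γγ ((Z j hj ⟨a, L j ha⟩).1 ha) ((Z k hk ⟨b, L k hb⟩).1 hb)
    rcases le_or_gt (n + 1 + 2) (j + k) with c | c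
    · exact (Z (j + k - (n + 1 + 2)) (by omega) _).2 (γ_anti (by omega) this)
    · rw [h.bot (by omega), mem_bot] at this
      rw [show ⁅a, b⁆ = 1 from congrArg Subtype.val this]; exact one_mem _
  · rw [Zs, h.ucs_eq _ le_rfl, Nat.add_sub_cancel_left, γ, top_subtype_lowerCentralSeries]; rfl
  · exact (Zm (⟨a, ha⟩ ^ p)).2 (h.pow_mem_one (by omega) _)
  · exact (G ⟨a, L _ ha⟩).2 (γ_le_K2 1 ((Zm _).1 ha))
  · exact h.K2_ne_top (i := 1) (by omega) (top_le_iff.1 fun x _ => (G x).1 (e.symm ▸ x.2))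
  · obtain ⟨a, h1, h2⟩ := h.exists_K2 (i := 1) le_rfl (by omega)
    exact h2 ((Zm a).1 (e ▸ (G a).2 h1))
  · obtain ⟨a, h1, h2⟩ := h.exists_K2 (i := n) (by omega) (by omega)
    exact h2 ((Zm a).1 (e ▸ (C a).2 h1))
  · obtain ⟨a, ha, rfl⟩ := ha
    have := h.K2_one_le_of (n + 1 + 1 - (k + 2)) (by omega) (by omega) ha _ ((Z _ h2 ⟨b, L _ hb⟩).1 hb)
    exact (Z k (by omega) _).2 (γ_anti (by omega) this)
  · refine (G ⟨a, ha⟩).2 ?_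
    rw [← h.K2_eq (i := n + 1 + 1 - (k + 2)) (by omega) (by omega)]
    refine h.mem_K2 (by omega) ((Z _ h2 ⟨b, L _ hb⟩).1 hb) (fun c => hb' ((Z _ (by omega) ⟨b, L _ hb⟩).2
      (γ_anti (by omega) c))) (γ_anti (by omega) ((Z k (by omega) ⁅(⟨a, ha⟩ : S), ⟨b, L _ hb⟩⁆).1 hc))
  · obtain ⟨b, hb, rfl⟩ := hb
    by_contra c
    have c' : (⟨a, ha⟩ : S) ∉ K2 S 1 := fun t => c ((G _).2 t)
    have hb1 : b ∉ γ S 1 := fun t => hb' ((Zm b).2 t)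
    refine h.comm_not_mem (by omega) hb1 (y := ⟨a, ha⟩) (fun t => c' (sup_le (γ_le_K2 1) (zpowers_le.2 hb) t)) ?_
    rw [← commutatorElement_inv]
    exact inv_mem (γ_anti (by omega) ((Z (n + 1 - 1) (by omega) ⁅(⟨a, ha⟩ : S), b⁆).1 hc))
  · refine (C ⟨a, ha⟩).2 (h.mem_K2 (y := ⟨b, L _ hb⟩) (by omega) (γ_anti (by omega) ((Z _ (by omega) _).1 hb))
      (fun c => hb' ((Z _ (by omega) ⟨b, L _ hb⟩).2 (γ_anti (by omega) c))) ?_)
    rw [show ⁅(⟨a, ha⟩ : S), (⟨b, L _ hb⟩ : S)⁆ = 1 from Subtype.ext hc]; exact one_mem _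
  · have hu : Unif (n + 1) (⟨a, ha⟩ : S) := ⟨fun c => h1 ((G _).2 (γ_le_K2 1 c)), fun i k1 k2 c => by
      rcases eq_or_lt_of_le (Nat.succ_le_of_lt k2) with e | e
      · exact h2 ((C _).2 (by rwa [show n = i by omega]))
      · exact h1 ((G _).2 (h.K2_eq k1 e ▸ c))⟩
    refine le_trans ?_ (h.card_cent hu (by omega))
    rw [← Solv.card_subgroupOf hA]
    exact card_le_card fun g hg => BG.mem_cent1.2 (Subtype.ext (mem_centralizer_singleton_iff.1 (hA' hg)))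
  · obtain ⟨k1, k2, a, ha, b, hb, k3⟩ := h.exc (by omega) fun c => hne (by
      rintro _ ⟨x, hx, rfl⟩; exact (C x).2 (c hx))
    exact ⟨k1.add_one, by omega, a, (Zm a).2 ha, b, (Z 3 (by omega) b).2 (γ_anti (by omega) hb),
      fun e => k3 (Subtype.ext e)⟩

omit [Finite S] hp in
theorem mxe_zs (hx : x ∈ S) (hy : y ∈ Zs S (k + 1)) : ⁅x, y⁆ ∈ Zs S k := comm_mem_symm ((mem_Zs_succ.1 hy).2 x hx)

omit [Finite S] in
/-- bilinearity modulo a normal subgroup -/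
theorem mxe_bil (hW : S ≤ normalizer (W : Set Ω)) (ha : a ∈ S) (hb : b ∈ S) (hu : u ∈ S) (hv : v ∈ S) (i l : ℤ)
    (hc : ∀ s ∈ S, ⁅s, ⁅a, b⁆⁆ ∈ W) (h1 : ⁅u, v * b ^ l⁆ ∈ W) (h2 : ⁅a, v⁆ ∈ W) :
    (⁅a, b⁆ ^ (i * l))⁻¹ * ⁅u * a ^ i, v * b ^ l⁆ ∈ W := by
  haveI := normal_subgroupOf_of_le_normalizer hW
  let π := QuotientGroup.mk' (W.subgroupOf S)
  have K : ∀ s : S, π s = 1 ↔ (s : Ω) ∈ W := fun s => QuotientGroup.eq_one_iff s
  lift a to S using ha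
  lift b to S using hb
  lift u to S using hu
  lift v to S using hv
  have c : ∀ s : S, Commute ⁅π a, π b⁆ (π s) := fun s =>
    (commutatorElement_eq_one_iff_commute.1 ((K ⁅s, ⁅a, b⁆⁆).2 (hc s s.2))).symm
  have e1 : ⁅π u, π v * π b ^ l⁆ = 1 := by simpa using (K ⁅u, v * b ^ l⁆).2 h1
  have e2 : ⁅π a, π v⁆ = 1 := (K ⁅a, v⁆).2 h2
  have e3 : ⁅π a, π v * π b ^ l⁆ = ⁅π a, π b⁆ ^ l := by
    rw [PGrp.commutator_mul_right (by rw [PGrp.commutator_zpow_right (c b)]; exact (c v).zpow_left l), e2, one_mul,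
      PGrp.commutator_zpow_right (c b)]
  have e4 : ⁅π a ^ i, π v * π b ^ l⁆ = ⁅π a, π b⁆ ^ (i * l) := by
    rw [PGrp.commutator_zpow_left (by rw [e3]; exact (c a).zpow_left l), e3, ← zpow_mul, mul_comm]
  refine (K ((⁅a, b⁆ ^ (i * l))⁻¹ * ⁅u * a ^ i, v * b ^ l⁆)).1 ?_
  simp only [map_mul, map_inv, map_zpow, map_commutatorElement]
  rw [PGrp.commutator_mul_left (by rw [e4]; exact (c u).zpow_left _), e4, e1, mul_one, inv_mul_cancel]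

omit [Finite S] in
theorem mxe_exp (hy : y ∉ W) (hp' : y ^ p ∈ W) {i l : ℤ} (h1 : (y ^ i)⁻¹ * x ∈ W) (h2 : (y ^ l)⁻¹ * x ∈ W) :
    (i : ZMod p) = l := by
  have := mul_mem h1 (inv_mem h2)
  rw [show (y ^ i)⁻¹ * x * ((y ^ l)⁻¹ * x)⁻¹ = y ^ (l - i) by group] at this
  exact (ZMod.intCast_eq_intCast_iff_dvd_sub i l p).2 (PGrp.dvd_of_zpow_mem hp.out hy hp' this)

namespace MCl

variable (h : MCl p S Γ m)
include h

theorem rel (hk : k < m) : (Zs S k).relIndex (Zs S (k + 1)) = p :=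
  have := finite_of_le (Zs_le S k)
  relIndex_of_card (Zs_mono S k.le_succ) (by rw [h.cZ k hk.le, h.cZ _ hk, pow_succ])

theorem relS : (Zs S m).relIndex S = p ^ 2 :=
  have := finite_of_le (Zs_le S m)
  relIndex_of_card (Zs_le S m) (by rw [h.cZ m le_rfl, h.cS, pow_add])

theorem exists_lev (hk : k < m) : ∃ y ∈ Zs S (k + 1), y ∉ Zs S k := by
  by_contra! c
  exact hp.out.ne_one ((h.rel hk).symm.trans (relIndex_eq_one.2 c))

theorem sup_lev (hk : k < m) (hy : y ∈ Zs S (k + 1)) (hy' : y ∉ Zs S k) : Zs S k ⊔ zpowers y = Zs S (k + 1) :=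
  sup_zpowers_of_relIndex (h.rel hk).dvd (Zs_mono S k.le_succ) hy hy'

theorem dec (hk : k < m) (hy : y ∈ Zs S (k + 1)) (hy' : y ∉ Zs S k) (hx : x ∈ Zs S (k + 1)) :
    ∃ u ∈ Zs S k, ∃ i : ℤ, u * y ^ i = x :=
  exists_mul_zpow (h.rel hk).dvd (Zs_mono S k.le_succ) ((Zs_le S _).trans (le_normalizer_Zs S k)) hy hy' hx

theorem pow_lev (hk : k < m) (hy : y ∈ Zs S (k + 1)) : y ^ p ∈ Zs S k :=
  pow_mem_of_relIndex (h.rel hk).dvd ((Zs_le S _).trans (le_normalizer_Zs S k)) hy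

omit h [Finite S] hp in
theorem level (hy : y ∈ Zs S m) (hy' : y ∉ Zs S k) : ∃ j, k ≤ j ∧ j < m ∧ y ∈ Zs S (j + 1) ∧ y ∉ Zs S j := by
  induction m with
  | zero => exact absurd (Zs_mono S (Nat.zero_le k) hy) hy'
  | succ n ih =>
    by_cases c : y ∈ Zs S n
    · obtain ⟨j, h1, h2, h3⟩ := ih c
      exact ⟨j, h1, by omega, h3⟩
    · exact ⟨n, by by_contra d; exact hy' (Zs_mono S (by omega) hy), n.lt_succ_self, hy, c⟩

omit [Finite S] hp in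
theorem ZC : Zs S m ≤ centralizerIn S (Zs S 2) := fun a ha => ⟨Zs_le S m ha, fun b hb => by
  have := h.zz m le_rfl 2 (by have := h.m3; omega) a ha b hb
  rw [Nat.sub_self, Zs_zero, mem_bot] at this
  exact (commutatorElement_eq_one_iff_mul_comm.1 this).symm⟩

theorem rel_of (h1 : Zs S m ≤ R) (h2 : R ≤ S) (h3 : R ≠ S) : (Zs S m).relIndex R ∣ p :=
  relIndex_dvd_left h.relS.dvd h1 h2 h3

theorem rel_of' (h1 : Zs S m ≤ R) (h2 : R ≤ S) (h3 : R ≠ Zs S m) : R.relIndex S ∣ p :=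
  relIndex_dvd_right h.relS.dvd h1 h2 h3

theorem sup_m (h1 : Zs S m ≤ R) (h2 : R ≤ S) (h3 : R ≠ S) (he : e ∈ R) (he' : e ∉ Zs S m) : Zs S m ⊔ zpowers e = R :=
  sup_zpowers_of_relIndex (h.rel_of h1 h2 h3) h1 he he'

theorem mem_m (hne : ¬ Γ ≤ centralizerIn S (Zs S 2)) (h1 : x ∈ Γ) (h2 : x ∈ centralizerIn S (Zs S 2)) : x ∈ Zs S m := by
  by_contra c
  exact hne ((h.sup_m h.zle h.le h.ne h1 c).ge.trans (sup_le h.ZC (zpowers_le.2 h2)))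

theorem eq_C (hle : Γ ≤ centralizerIn S (Zs S 2)) : centralizerIn S (Zs S 2) = Γ :=
  (eq_or_eq_of_relIndex_dvd (h.rel_of' h.zle h.le h.ne') hle (CS_le _ _)).resolve_right h.cne

theorem not_le_of (he : e ∈ centralizerIn S (Zs S 2)) (he' : e ∉ Γ) : ¬ Γ ≤ centralizerIn S (Zs S 2) :=
  fun c => he' (h.eq_C c ▸ he)

theorem Z3ab : Zs S 3 ≤ centralizer (Zs S 3 : Set Ω) :=
  ab_of_relIndex (Zs_mono S (by omega)) ((Zs_mono S h.m3).trans (h.ZC.trans (CS_le_centralizer _ _)))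
    (h.rel (k := 2) h.m3).dvd

theorem derΓ : ⁅Γ, Γ⁆ ≤ Zs S (m - 2) := by
  obtain ⟨e, he, he'⟩ := SetLike.exists_of_lt (lt_of_le_of_ne h.zle h.ne'.symm)
  have m3 := h.m3
  have n := le_normalizer_Zs S (m - 2)
  have k : ⁅Γ, Zs S m⁆ ≤ Zs S (m - 2) := commutator_le.2 fun a ha b hb =>
    h.g2 a ha _ (by omega) (by omega) b (by rwa [show m - 2 + 2 = m by omega])
  have e1 := h.sup_m h.zle h.le h.ne he he'
  have n1 := (Zs_le S m).trans n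
  have n2 := (zpowers_le.2 (h.le he)).trans n
  nth_rewrite 2 [← e1]
  refine commutator_sup_right_le n1 n2 k ?_
  rw [← e1]
  refine commutator_sup_left_le n1 n2 (commutator_comm_le _ _ |>.trans ((commutator_mono (zpowers_le.2 he) le_rfl).trans k)) ?_
  exact commutator_le_of_le_centralizer (le_centralizer_iff_isMulCommutative.2 inferInstance) _

/-- a subgroup containing `Z₂` and an element outside `Γ` contains every level it meets -/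
theorem lev_le (hR : R ≤ S) (h2 : Zs S 2 ≤ R) (he : e ∈ R) (he' : e ∉ Γ) :
    ∀ j, 1 ≤ j → j < m → ∀ y ∈ R, y ∈ Zs S (j + 1) → y ∉ Zs S j → Zs S (j + 1) ≤ R
  | 1, _, _, _, _, _, _ => h2
  | j + 2, _, hj, y, hy, h1, h3 => by
    rw [← h.sup_lev hj h1 h3]
    exact sup_le (lev_le hR h2 he he' (j + 1) (by omega) (by omega) _ (comm_mem_of_normalizer (le_normalizer he) hy) (mxe_zs (hR he) h1)
      fun c => he' (h.g3 e (hR he) (j + 1) (by omega) hj y h1 h3 c)) (zpowers_le.2 hy)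

/-- the upper central series of `⟨e⟩ Z_k` -/
theorem ucs (hR : R ≤ centralizerIn S (Zs S 2)) (he : e ∈ R) (he' : e ∉ Γ) (hk : Zs S k ≤ R) (hkm : k ≤ m)
    (h1 : Zs R 1 = Zs S 2) : ∀ j, 1 ≤ j → j + 2 ≤ k → Zs R j = Zs S (j + 1)
  | 1, _, _ => h1
  | j + 2, _, hj => by
    have ih := ucs hR he he' hk hkm h1 (j + 1) (by omega) (by omega)
    have hS := hR.trans (CS_le _ _)
    ext y
    rw [mem_Zs_succ, ih]
    refine ⟨fun ⟨k1, k2⟩ => by_contra fun c => ?_, fun k1 => ⟨hk (Zs_mono S (by omega) k1), fun s hs =>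
      (mem_Zs_succ.1 k1).2 s (hS hs)⟩⟩
    obtain ⟨z, hz, hz'⟩ := h.exists_lev (k := j + 3) (by omega)
    have y1 := h.mem_m (h.not_le_of (hR he) he') (h.g3 y (hS k1) (j + 2) (by omega) (by omega) z hz hz'
      (k2 z (hk (Zs_mono S (by omega) hz)))) (hR k1)
    obtain ⟨i, i1, i2, i3, i4⟩ := level y1 c
    obtain ⟨i, rfl⟩ : ∃ l, i = l + 1 := ⟨i - 1, by omega⟩
    exact he' (h.g3 e (hS he) i (by omega) (by omega) y i3 i4 (Zs_mono S (by omega) (comm_mem_symm (k2 e he))))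

end MCl

end Cfsg.Agent.Fus
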