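import Cfsg.Agent.MxE.B
import Cfsg.Agent.Fus.Rk2

/-! General lemmas on essential subgroups: one transvection suffices, transport, extension (helper26). -/

set_option autoImplicit false

namespace Cfsg.Agent.Fus

open Subgroup Cfsg Cfsg.Agent.Loc Equiv
open Cfsg.FusionSystem (normalizerIn centralizerIn)
open scoped commutatorElement

variable {Ω : Type*} [Group Ω] {S P Q R H : Subgroup Ω} {p : ℕ} {F : FusionSystem S} {a f g k : Perm Ω}
  {t v z : Ω} [hp : Fact p.Prime] [Finite S]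

theorem Es.far_conj (h : Es F p P) (hg : Far F P g) (hv : v ∈ normalizerIn S P) (h0 : v ∉ P) :
    Far F P (g⁻¹ * cr P v * g) := by
  have := h.finite
  have := finite_AutF F P
  have := finite_of_le (Hgen_le F P)
  refine ⟨mul_mem (mul_mem (inv_mem hg.1) (h.cr_mem hv)) hg.1, fun hc => ?_⟩
  have hv' := cr_mem_AutK hv.1 hv.2
  obtain ⟨n, hn⟩ := isPGroup_AutK h.sat.pg P ⟨_, hv'⟩
  have hn' : cr P v ^ p ^ n = 1 := congrArg Subtype.val hn
  obtain ⟨k, hk, e⟩ := (h.syl.mono (AutK_le_Hgen F h.lt) (Hgen_le F P)).exists_conj_le (zpowers_le.2 hc)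
    (IsPGroup.of_card (n := (Nat.card (zpowers (g⁻¹ * cr P v * g))).factorization p) (by
      rw [Nat.card_zpowers]
      obtain ⟨i, -, e⟩ := (Nat.dvd_prime_pow hp.out).1 (orderOf_dvd_of_pow_eq_one (x := g⁻¹ * cr P v * g) (n := p ^ n) (by
        rw [show g⁻¹ * cr P v * g = g⁻¹ * cr P v * g⁻¹⁻¹ by rw [inv_inv], conj_pow, hn', mul_one, mul_inv_cancel]))
      rw [e, Nat.factorization_pow_self hp.out]))
  refine h.far_false (g := k * g⁻¹) ⟨mul_mem (Hgen_le F P hk) (inv_mem hg.1), fun c =>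
    hg.inv.2 ((mul_mem_cancel_left hk).1 c)⟩ hv h0 hv h0 h.syl.le h.syl.pg hv' ?_
  have := cj_le_iff_forall.1 e _ (mem_zpowers _)
  simpa [mul_assoc] using this

/-- A single transvection with axis `H` forces all of `N_S(P)` to centralize `H`. -/
theorem Es.tv_of (h : Es F p P) (ab : P ≤ centralizer (P : Set Ω)) (hH : H ≤ P) (hi : H.relIndex P ∣ p)
    (ht : t ∈ normalizerIn S P) (h0 : t ∉ P) (hc : t ∈ centralizer (H : Set Ω)) : TV F p P H := by
  refine ⟨h, ab, hH, hi, fun u hu => by_contra fun hu' => ?_⟩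
  have norm : ∀ B ≤ P, P ≤ normalizer (B : Set Ω) := fun B hB =>
    le_normalizer_of_le_centralizer (ab.trans (centralizer_anti hB))
  have T := homOn_of_AutF (h.cr_mem ht)
  have M := maps_of_AutF (h.cr_mem ht)
  have fix : ∀ z ∈ H, cr P t z = z := fun z hz => by rw [cr_apply ht.2 (hH hz), ← hc z hz, mul_inv_cancel_right]
  have := h.finite
  have := finite_of_le hH
  have tv : Tv (cr P t) H P := h.tv_cr ht le_rfl ((T.mono hH).maps_self fun x hx => by rwa [fix x hx]) M (norm H hH) hi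
  have mf : ∀ x ∈ P, cr P t x = x → x ∈ H := fun x hx e => by_contra fun hx' =>
    h0 (h.CS_le ⟨ht.1, (cr_eq_one_iff ht.2).1 ((supp_cr P t).eq_one fun y hy => by
      obtain ⟨b, hb, i, rfl⟩ := exists_mul_zpow hi hH (norm H hH) hx hx' hy
      rw [T b (hH hb) _ (zpow_mem hx i), T.map_zpow hx, e, fix b hb])⟩)
  obtain ⟨x, hx, hx'⟩ : ∃ x ∈ P, x ∉ H := by
    by_contra! c
    exact h0 (h.CS_le ⟨ht.1, centralizer_anti c hc⟩)
  set z := x⁻¹ * cr P t x with hz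
  have hzH : z ∈ H := tv x hx
  have hzP := hH hzH
  have tz : Tv (cr P t) (zpowers z) P := by
    have hn := norm _ (zpowers_le.2 hzP)
    have e := sup_zpowers_of_relIndex hi hH hx hx'
    have := Tv.sup (tv_of_fix fix _) (Tv.zpowers (mem_zpowers _) (T.mono (zpowers_le.2 hx)) (hn hx))
      (e.symm ▸ T) ((zpowers_le.2 hx).trans hn) (hH.trans hn)
    rwa [e] at this
  have hzp : z ^ p = 1 := by
    rw [hz, (commute_of_le_centralizer ab (inv_mem hx) (M.mem hx)).mul_pow, ← T.map_pow hx,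
      fix _ (pow_mem_of_relIndex hi (norm H hH) hx), inv_pow, inv_mul_cancel]
  have far : ∀ g, Far F P g → g z ∉ H := fun g hg hb => by
    have G := homOn_of_AutF hg.1
    have hm := (G.mono (zpowers_le.2 hzP)).maps_zpowers
    have hle : zpowers (g z) ≤ H := zpowers_le.2 hb
    have := finite_of_le hle
    refine h.far_chain hg ht h0 ht h0 (hle.trans hH) ((T.mono (hle.trans hH)).maps_self
      fun x hx => by rwa [fix x (hle hx)]) (tz.conj G le_rfl M hm (maps_of_AutF hg.1)) (tv_of_fix (fun c hc => ?_) _)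
    obtain ⟨d, hd, rfl⟩ := hm.exists_eq hc
    simp [fix d (zpowers_le.2 hzH hd)]
  obtain ⟨g, hg⟩ := h.exists_far
  have G := homOn_of_AutF hg.inv.1
  have Mg := maps_of_AutF hg.inv.1
  have hw := (maps_of_AutF (h.cr_mem hu)).mem ((maps_of_AutF hg.1).mem hzP)
  have hw' : cr P u (g z) ∉ H := far (cr P u * g) ⟨mul_mem (h.cr_mem hu) hg.1, fun c =>
    hg.2 ((mul_mem_cancel_left (AutK_le_Hgen F h.lt (cr_mem_AutK hu.1 hu.2))).1 c)⟩
  obtain ⟨b, hb, i, e⟩ := exists_mul_zpow hi hH (norm H hH) (Mg.mem hzP) (far _ hg.inv) (Mg.mem hw)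
  obtain ⟨n, hn⟩ := exists_pow_transv T M hzP hw hzp (fix z hzH) (tz _ hw) (fun e => hw' (mf _ hw e))
    (inv_mem (zpow_mem (mem_zpowers z) i))
  have hv : t ^ n * u ∈ normalizerIn S P := mul_mem (pow_mem ht n) hu
  refine far _ (h.far_conj hg hv fun c => hu' ((mul_mem_cancel_left (pow_mem hc n)).1
    (centralizer_anti hH (ab c)))) ?_
  rwa [Perm.mul_apply, Perm.mul_apply, homOn_cr P _ (pow_mem ht.2 n) _ hu.2, (homOn_cr P).map_pow ht.2, Perm.mul_apply, hn,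
    G.map_mul_inv hw (zpow_mem hzP i), G.map_zpow hzP, ← e, mul_inv_cancel_right]

theorem Es.iso (h : Es F p P) (hk : Mor F (normalizerIn S P) k) (hm : Maps k P Q) : Es F p Q := by
  have hi : Iso F k P Q := ⟨hk.mono (le_NS h.le), hm⟩
  have hN := fn_maps_NS h.fn hk hm
  have hlt : Q < S := lt_of_lt_of_le ((hm.lt_iff hN).2 h.lt_NS) (NS_le S Q)
  refine ⟨h.sat, h.sat.ess_iff.2 ⟨centric_iso h.ess.1 hi, fn_iso h.fn hk hm, hlt, fun e => h.sat.Hgen_ne h.ess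
    (le_antisymm (Hgen_le F P) fun b hb => ?_)⟩⟩
  have key : ∀ a ∈ Hgen F Q, k⁻¹ * a * k⁻¹⁻¹ ∈ Hgen F P := fun a ha => by
    induction ha using closure_induction with
    | mem a ha =>
      obtain ⟨ha, R, hR, g, hg, e⟩ := ha
      have := finite_of_le hg.le
      have hQ : Maps g Q Q := (maps_of_AutF ha).congr e
      have h1 := lt_inf_normalizer (h.sat.pg.to_le hg.le) hR
      have h2 : R ⊓ normalizer (Q : Set Ω) ≤ normalizerIn S Q := inf_le_inf_right _ hg.le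
      have hI : Iso F k⁻¹ (normalizerIn S Q) (normalizerIn S P) := Iso.symm ⟨hk, hN⟩
      have h3 := hI.restrict h2
      refine mem_Hgen (hi.symm.conj_mem ha) ((hm.symm.lt_iff h3.maps).2 h1) (g := k⁻¹ * g * k⁻¹⁻¹)
        ((hI.mor.mul (hg.mono inf_le_left) fun x hx => hg.mem_NS hR.le hQ hx.1 hx.2).mul h3.symm.mor
          fun x hx => h3.symm.mem hx) fun x hx => ?_
      simp only [Perm.mul_apply, inv_inv]
      rw [e _ (hm.mem hx)]
    | one => simpa using one_mem _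
    | mul a b _ _ ha hb => simpa [mul_assoc] using mul_mem ha hb
    | inv a _ ha => simpa [mul_assoc] using inv_mem ha
  have := key _ (e ▸ hi.conj_mem hb)
  rwa [show k⁻¹ * (k * b * k⁻¹) * k⁻¹⁻¹ = b by group] at this

theorem Sat.ext_R (hF : Sat F p) (hR : R ≤ S) (hc : ∀ g, Iso F g S S → Maps g R R) (hP : P ≤ R) (hf : Mor F P f)
    (h : ∀ (k : Perm Ω) (E : Subgroup Ω), Mor F P k → F.IsEssential p E → (∀ x ∈ P, k x ∈ E) → E = R) :
    ∃ g, Iso F g R R ∧ ∀ x ∈ P, g x = f x := by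
  have := (hF.alperin (C := fun P f => (∃ (k : Perm Ω) (E : Subgroup Ω), Mor F P k ∧ F.IsEssential p E ∧ E ≠ R ∧
    ∀ x ∈ P, k x ∈ E) ∨ ∃ g, Iso F g R R ∧ ∀ x ∈ P, (f x ∈ R ↔ x ∈ R) ∧ (x ∈ R → g x = f x)) ⟨?_, ?_, ?_, ?_⟩ ?_
      P f hf).resolve_left fun ⟨k, E, h1, h2, h3, h4⟩ => h3 (h k E h1 h2 h4)
  · obtain ⟨g, h1, h2⟩ := this
    exact ⟨g, h1, fun x hx => (h2 x hx).2 (hP hx)⟩
  · rintro P f g (h | ⟨k, h1, h2⟩) e
    exacts [.inl h, .inr ⟨k, h1, fun x hx => by rw [e x hx]; exact h2 x hx⟩]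
  · rintro P Q f (⟨k, E, h1, h2, h3, h4⟩ | ⟨k, h1, h2⟩) hQ
    exacts [.inl ⟨k, E, h1.mono hQ, h2, h3, fun x hx => h4 x (hQ hx)⟩, .inr ⟨k, h1, fun x hx => h2 x (hQ hx)⟩]
  · rintro P Q U f g hf hg (h | ⟨k, h1, h2⟩) h'
    · exact .inl h
    rcases h' with ⟨l, E, h3, h4, h5, h6⟩ | ⟨l, h3, h4⟩
    · exact .inl ⟨l * f, E, h3.mul hf.mor fun _ => hf.mem, h4, h5, fun x hx => h6 _ (hf.mem hx)⟩
    · refine .inr ⟨l * k, h1.trans h3, fun x hx => ⟨(h4 _ (hf.mem hx)).1.trans (h2 x hx).1, fun c => ?_⟩⟩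
      rw [Perm.mul_apply, (h2 x hx).2 c, (h4 _ (hf.mem hx)).2 ((h2 x hx).1.2 c)]; rfl
  · rintro P Q f hf (⟨k, E, h1, h2, h3, h4⟩ | ⟨k, h1, h2⟩)
    · exact .inl ⟨k * f⁻¹, E, h1.mul hf.symm.mor fun _ => hf.symm.mem, h2, h3, fun x hx => h4 _ (hf.symm.mem hx)⟩
    · refine .inr ⟨k⁻¹, h1.symm, fun y hy => ?_⟩
      obtain ⟨x, hx, rfl⟩ := hf.maps.exists_eq hy
      refine ⟨by simpa using (h2 x hx).1.symm, fun c => ?_⟩
      have e := (h2 x hx).2 ((h2 x hx).1.1 c)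
      rw [perm_inv_apply]
      rw [← e, perm_inv_apply]
  · rintro P (rfl | hP) a ha
    · have k := iso_of_AutF le_rfl ha
      exact .inr ⟨a, ⟨k.mor.mono hR, hc a k⟩, fun x _ => ⟨hc a k x, fun _ => rfl⟩⟩
    · by_cases e : P = R
      · subst e
        exact .inr ⟨a, iso_of_AutF hR ha, fun x _ => ⟨maps_of_AutF ha x, fun _ => rfl⟩⟩
      · exact .inl ⟨1, P, mor_one F hP.1.1, hP, e, fun _ hx => hx⟩

theorem Sat.ext_pCore (hF : Sat F p) (hP : F.IsFullyNormalized P)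
    (h : ∀ x ∈ normalizerIn S P, cr P x ∈ pCoreOf p (AutF F P)) (hf : Iso F f P P) :
    ∃ g, Iso F g (normalizerIn S P) (normalizerIn S P) ∧ ∀ x ∈ P, g x = f x := by
  have ha := hf.res_mem
  have hi := iso_of_AutF hP.1 ha
  have hn : cj (res P f) (AutK S P) ≤ AutK S P := by
    refine le_trans (cj_mono _ fun b hb => ?_) ((cj_eq_of_mem_normalizer (le_normalizer_pCoreOf p _ ha)).le.trans
      (hF.syl hP).pCoreOf_le)
    obtain ⟨s, h1, h2, rfl⟩ := mem_AutK.1 hb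
    exact h s ⟨h1, h2⟩
  obtain ⟨g, hg, e⟩ := rec_ext (hF.rec_of_fn hP) hi (le_Ext_of_cj_le hi.maps le_rfl (by rwa [AutK_NS]))
  have hg' := hg.mono le_sup_left
  exact ⟨g, ⟨hg', fn_maps_NS hP hg' (hi.maps.congr e)⟩, fun x hx => (e x hx).trans (res_apply hf.maps hx)⟩

omit [Finite S] in
theorem TVD.exists_two {Z : Subgroup Ω} (h : TVD F p P Z t z) (hg : Far F P g) (h2 : p ≠ 2) :
    ∃ σ ∈ AutF F P ⊓ FixP (Dz F P Z), σ z = z ^ 2 ∧ σ (g z) ^ 2 = z ^ 2 * g z := by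
  have hw := (maps_of_AutF hg.1).mem h.hzP
  obtain ⟨h1, h3, h4⟩ := h.conj_data hg
  exact Fus.exists_two (μ := fun x => x) (homOn_id P) (fun x hx y hy => commute_of_le_centralizer h.ab hx hy)
    (inf_le_left.trans (AutF_le_AutOn F P)) (fun a ha x _ e => by rw [e, (homOn_of_AutF ha.1).map_one]) h2
    (τ := cr P t) (by simpa using h.conj_fix (one_mem _) h.ht) (h.conj_fix hg.1 h.ht) h.hzP hw h.hzp
    (by rw [← (homOn_of_AutF hg.1).map_pow h.hzP, h.hzp, (homOn_of_AutF hg.1).map_one]) (h.fix h.ht h.hz)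
    (h.comm t h.ht _ hw) (fun e => h.far g hg (h.mem_of_fix h.ht h.ht0 hw (inv_mul_eq_one.1 e).symm)) h1 h3
    fun e => h4 (inv_mul_eq_one.1 e).symm

end Cfsg.Agent.Fus
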