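import Cfsg.Agent.MxE.C

/-! Elementary abelian essential subgroups of order `p ^ 3` in a group of maximal class (helper26). -/

set_option autoImplicit false

namespace Cfsg.Agent.Fus

open Subgroup Cfsg Cfsg.Agent.Loc Equiv
open Cfsg.FusionSystem (normalizerIn centralizerIn)
open scoped commutatorElement

variable {Ω : Type*} [Group Ω] {S Γ E Q R : Subgroup Ω} {p m : ℕ} {F : FusionSystem S} {a f g k : Perm Ω}
  {t x y z e d : Ω} [hp : Fact p.Prime] [Finite S]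

structure El3 (F : FusionSystem S) (p : ℕ) (E : Subgroup Ω) : Prop extends Es F p E where
  ab : E ≤ centralizer (E : Set Ω)
  ex : ∀ x ∈ E, x ^ p = 1
  card : Nat.card E = p ^ 3

structure Cf3 (F : FusionSystem S) (p : ℕ) (E : Subgroup Ω) (t z : Ω) : Prop
    extends TVD F p E (E ⊓ Zs S 3) t z where
  ex : ∀ x ∈ E, x ^ p = 1
  card : Nat.card E = p ^ 3
  hN : E ⊔ Zs S 3 = normalizerIn S E
  cH : Nat.card (E ⊓ Zs S 3 : Subgroup Ω) = p ^ 2

theorem El3.iso (h : El3 F p E) (hk : Mor F (normalizerIn S E) k) (hm : Maps k E Q) : El3 F p Q := by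
  have H := hk.homOn.mono (le_NS h.le)
  refine ⟨h.toEs.iso hk hm, fun y hy => ?_, fun y hy => ?_, hm.card_eq ▸ h.card⟩ <;>
    obtain ⟨x, hx, rfl⟩ := hm.exists_eq hy
  · exact H.mem_centralizer le_rfl hm hx (h.ab hx)
  · rw [← H.map_pow hx, h.ex x hx, H.map_one]

omit hp [Finite S] in
theorem Es.Z1_le (h : Es F p E) : Zs S 1 ≤ E := Zs_one S ▸ (CS_anti S h.le).trans h.CS_le

omit hp [Finite S] in
theorem El3.Z2_le (h : El3 F p E) (hC : E ≤ centralizerIn S (Zs S 2)) : Zs S 2 ≤ E :=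
  le_trans (le_inf (Zs_le S 2) (le_centralizer_iff.1 (hC.trans (CS_le_centralizer _ _)))) h.CS_le

omit [Finite S] in
theorem El3.le_Γ (h : El3 F p E) (c : MCl p S Γ m) (hC : ¬ E ≤ centralizerIn S (Zs S 2)) : E ≤ Γ := fun b hb => by
  by_contra hb'
  obtain ⟨a, ha, ha'⟩ := SetLike.not_le_iff_exists.1 hC
  have key : ∀ x ∈ E, x ∉ Γ → x ∈ centralizerIn S (Zs S 2) := fun x hx hx' => by_contra fun hc => by
    have := c.g5 x (h.le hx) hx' hc E h.le (h.ab.trans (centralizer_le (Set.singleton_subset_iff.2 hx)))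
    rw [h.card, Nat.pow_le_pow_iff_right hp.out.one_lt] at this
    omega
  have h1 : a ∈ Γ := by_contra fun hc => ha' (key a ha hc)
  exact ha' ((mul_mem_cancel_right (key b hb hb')).1 (key _ (mul_mem ha hb) fun hc =>
    hb' ((mul_mem_cancel_left h1).1 hc)))

theorem El3.fin (h : El3 F p E) (h1 : TV F p E (E ⊓ Zs S 3)) (h2 : Zs S 3 ≤ normalizerIn S E) (h3 : ¬ Zs S 3 ≤ E)
    (h4 : Nat.card (E ⊓ Zs S 3 : Subgroup Ω) = p ^ 2) : ∃ t z, Cf3 F p E t z := by
  obtain ⟨t, z, d⟩ := h1.exists_tvd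
  exact ⟨t, z, d, h.ex, h.card, (eq_or_eq_of_relIndex_dvd d.relIndex.dvd le_sup_left
    (sup_le (le_NS h.le) h2)).resolve_left fun e => h3 (le_sup_right.trans e.le), h4⟩

theorem El3.cf (h : El3 F p E) (c : MCl p S Γ m) : ∃ t z, Cf3 F p E t z := by
  have := h.finite
  have m3 := c.m3
  have f2 := finite_of_le (Zs_le S 2)
  have f3 := finite_of_le (Zs_le S 3)
  by_cases hC : E ≤ centralizerIn S (Zs S 2)
  · have h2 := h.Z2_le hC
    have i2 : (Zs S 2).relIndex E = p := relIndex_of_card h2 (by rw [c.cZ 2 (by omega), h.card, pow_succ])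
    have h3 : ¬ Zs S 3 ≤ E := fun h3 => by
      have e : Zs S 3 = E := eq_of_le_of_card_le h3 (by rw [c.cZ 3 m3, h.card])
      obtain ⟨t, ht, ht'⟩ : ∃ t ∈ centralizerIn S (Zs S 2), t ∉ E := by
        by_contra! k
        exact c.cne' (le_antisymm (le_trans k (e ▸ Zs_mono S m3)) c.ZC)
      have hn : S ≤ normalizerIn S E := le_inf le_rfl (e ▸ le_normalizer_Zs S 3)
      exact c.cne (le_antisymm (CS_le _ _) (le_inf le_rfl
        (hn.trans (h.tv_of h.ab h2 i2.dvd (hn ht.1) ht' ht.2).cen)))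
    have e : E ⊓ Zs S 3 = Zs S 2 := (eq_or_eq_of_relIndex_dvd (c.rel (k := 2) m3).dvd
      (le_inf h2 (Zs_mono S (by omega))) inf_le_right).resolve_right fun e => h3 (e.ge.trans inf_le_left)
    have hn : Zs S 3 ≤ normalizerIn S E := fun t ht => ⟨Zs_le S 3 ht, mem_normalizer_of_comm fun c hc =>
      h2 ((mem_Zs_succ.1 ht).2 c (h.le hc))⟩
    obtain ⟨t, ht, ht'⟩ := SetLike.not_le_iff_exists.1 h3
    exact h.fin (e.symm ▸ h.tv_of h.ab h2 i2.dvd (hn ht) ht' (c.ZC (Zs_mono S m3 ht)).2) hn h3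
      (by rw [e, c.cZ 2 (by omega)])
  · have hΓ := h.le_Γ c hC
    have h2 : ¬ Zs S 2 ≤ E := fun k => hC (le_inf h.le (h.ab.trans (centralizer_anti k)))
    obtain ⟨t, ht, ht'⟩ := SetLike.not_le_iff_exists.1 h2
    have i1 : (E ⊓ Zs S m).relIndex E ∣ p := by
      rw [inf_relIndex_left]
      haveI := normal_subgroupOf_of_le_normalizer (c.le.trans (le_normalizer_Zs S m))
      rw [← relIndex_subgroupOf hΓ]
      exact (relIndex_dvd_index_of_normal _ _).trans (c.rel_of c.zle c.le c.ne)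
    have hn : Zs S 3 ≤ normalizerIn S E := fun t ht => ⟨Zs_le S 3 ht, mem_normalizer_of_comm fun d hd =>
      h.Z1_le (comm_mem_symm (c.g2 d (hΓ hd) 1 le_rfl m3 t ht))⟩
    have tv := h.tv_of h.ab inf_le_left i1 (hn (Zs_mono S (by omega) ht)) ht'
      (le_centralizer_iff.1 ((inf_le_right.trans c.ZC).trans (CS_le_centralizer _ _)) ht)
    obtain ⟨t', z, d⟩ := tv.exists_tvd
    have h3 : ¬ Zs S 3 ≤ E := fun k => h2 ((Zs_mono S (by omega)).trans k)
    have k1 : Nat.card (E ⊓ Zs S m : Subgroup Ω) = p ^ 2 := by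
      have := Solv.card_mul_relIndex (inf_le_left : E ⊓ Zs S m ≤ E)
      rw [((Nat.dvd_prime hp.out).1 i1).resolve_left fun e => hC
        ((relIndex_eq_one.1 e).trans (inf_le_right.trans c.ZC)), h.card, pow_succ] at this
      exact Nat.eq_of_mul_eq_mul_right hp.out.pos this
    have k2 : p ^ 2 ≤ Nat.card (E ⊓ Zs S 3 : Subgroup Ω) := by
      have k3 := Solv.card_inf_mul_relIndex E (Zs S 3)
      have k4 := relIndex_le_of_le_right (H := E) hn (by rw [d.relIndex]; exact hp.out.ne_zero)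
      rw [c.cZ 3 m3, pow_succ] at k3
      rw [d.relIndex] at k4
      exact Nat.le_of_mul_le_mul_right (k3.ge.trans (Nat.mul_le_mul_left _ k4)) hp.out.pos
    have := finite_of_le (inf_le_left : E ⊓ Zs S m ≤ E)
    have e : E ⊓ Zs S 3 = E ⊓ Zs S m := eq_of_le_of_card_le (inf_le_inf_left _ (Zs_mono S m3)) (k1.le.trans k2)
    exact h.fin (e.symm ▸ tv) hn h3 (e.symm ▸ k1)

omit [Finite S] in
theorem mxe_tv (hF : Sat F p) {P B C : Subgroup Ω} (hP : P ≤ S) (ht : t ∈ normalizerIn S P) (hC : C ≤ P)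
    (sB : Maps (cr P t) B B) (sC : Maps (cr P t) C C) (hn : C ≤ normalizer (B : Set Ω)) (hi : B.relIndex C ∣ p) :
    Tv (cr P t) B C := by
  obtain ⟨k, hk⟩ := exists_pow_of_isPGroup (isPGroup_AutK hF.pg P) (cr_mem_AutK ht.1 ht.2)
  exact tv_of_relIndex hk ((homOn_of_AutF (cr_mem_AutF F hP ht)).mono hC) sC sB hn hi

namespace Cf3

variable (h : Cf3 F p E t z)
include h

omit hp [Finite S] in
theorem el : El3 F p E := ⟨h.toEs, h.ab, h.ex, h.card⟩

omit hp [Finite S] in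
theorem Z3_le : Zs S 3 ≤ normalizerIn S E := le_sup_right.trans h.hN.le

omit [Finite S] in
theorem cN : Nat.card (normalizerIn S E) = p ^ 4 := by
  rw [← Solv.card_mul_relIndex (le_NS h.le), h.relIndex, h.card, ← pow_succ]

omit [Finite S] in
theorem ZN : centralizerIn (normalizerIn S E) (normalizerIn S E) = E ⊓ Zs S 3 := by
  refine le_antisymm (fun y hy => ?_) (le_inf (inf_le_left.trans (le_NS h.le)) (le_centralizer_iff.1 h.cen))
  have hyE : y ∈ E := h.CS_le ⟨hy.1.1, centralizer_anti (le_NS h.le) hy.2⟩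
  exact h.mem_of_fix h.ht h.ht0 hyE (by rw [cr_apply h.ht.2 hyE, hy.2 t h.ht, mul_inv_cancel_right])

omit hp [Finite S] in
theorem chrH [Fact p.Prime] : Chr (normalizerIn S E) (E ⊓ Zs S 3) := h.ZN ▸ chr_CS _

omit hp [Finite S] in
theorem comm_z (hs : x ∈ normalizerIn S E) (he : e ∈ E) : ⁅x, e⁆ ∈ zpowers z := by
  have := h.comm x hs e⁻¹ (inv_mem he)
  rw [cr_apply hs.2 (inv_mem he), inv_inv] at this
  rw [← commutatorElement_inv]
  exact inv_mem (by simpa only [commutatorElement_def, mul_assoc] using this)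

omit hp [Finite S] in
theorem z_der : z ∈ ⁅normalizerIn S E, normalizerIn S E⁆ := by
  obtain ⟨x, hx, e⟩ := h.eqz
  have := commutator_mem_commutator (le_NS h.le (inv_mem hx)) h.ht
  rwa [commutatorElement_def, inv_inv, mul_assoc, mul_assoc, ← mul_assoc t, e] at this

theorem supE (he : e ∈ E) (he' : e ∉ Zs S 3) : (E ⊓ Zs S 3) ⊔ zpowers e = E :=
  sup_zpowers_of_relIndex h.idx h.leZ he fun c => he' c.2

theorem exists_e : ∃ e ∈ E, e ∉ Zs S 3 := by
  obtain ⟨g, hg⟩ := h.exists_far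
  have := (maps_of_AutF hg.1).mem h.hzP
  exact ⟨_, this, fun c => h.far g hg ⟨this, c⟩⟩

theorem supN (he : e ∈ E) (he' : e ∉ Zs S 3) : Zs S 3 ⊔ zpowers e = normalizerIn S E := by
  refine le_antisymm (sup_le h.Z3_le (zpowers_le.2 (le_NS h.le he))) ?_
  rw [← h.hN, ← h.supE he he']
  exact sup_le (sup_le (inf_le_right.trans le_sup_left) le_sup_right) le_sup_left

variable (c : MCl p S Γ m)
include c

theorem iD : (Zs S 3).relIndex (normalizerIn S E) = p :=
  have := finite_of_le (Zs_le S 3)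
  relIndex_of_card h.Z3_le (by rw [c.cZ 3 c.m3, h.cN, pow_succ])

theorem iH : (E ⊓ Zs S 3).relIndex (Zs S 3) = p :=
  have := finite_of_le (inf_le_right.trans (Zs_le S 3) : E ⊓ Zs S 3 ≤ S)
  relIndex_of_card inf_le_right (by rw [c.cZ 3 c.m3, h.cH, pow_succ])

omit [Finite S] in
theorem ltS : normalizerIn S E < S := lt_of_le_of_ne (NS_le S E) fun e => by
  have := h.cN
  have m3 := c.m3
  rw [e, c.cS, Nat.pow_right_inj hp.out.one_lt] at this
  omega

omit c [Finite S] in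
theorem mapsD (hx : x ∈ normalizerIn S (normalizerIn S E)) : Maps (cr (normalizerIn S E) x) (Zs S 3) (Zs S 3) :=
  (maps_cp (le_normalizer_Zs S 3 hx.1)).congr fun _ hy => cr_apply hx.2 (h.Z3_le hy)

omit c [Finite S] in
theorem mapsH (ha : a ∈ AutF F (normalizerIn S E)) : Maps a (E ⊓ Zs S 3) (E ⊓ Zs S 3) :=
  h.chrH.stab (AutF_le_AutOn F _ ha)

theorem tvD (hx : x ∈ normalizerIn S (normalizerIn S E)) : Tv (cr (normalizerIn S E) x) (Zs S 3) (normalizerIn S E) :=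
  mxe_tv h.sat (NS_le S E) hx le_rfl (h.mapsD hx) (maps_of_AutF (cr_mem_AutF F (NS_le S E) hx))
    ((NS_le S E).trans (le_normalizer_Zs S 3)) (h.iD c).dvd

theorem tvH (hx : x ∈ normalizerIn S (normalizerIn S E)) : Tv (cr (normalizerIn S E) x) (E ⊓ Zs S 3) (Zs S 3) :=
  mxe_tv h.sat (NS_le S E) hx h.Z3_le (h.mapsH (cr_mem_AutF F (NS_le S E) hx)) (h.mapsD hx)
    (h.Z3_le.trans h.chrH.le_normalizer) (h.iH c).dvd

omit c in
theorem nrm (he : e ∈ E) (he' : e ∉ Zs S 3) (hx : x ∈ normalizerIn S (normalizerIn S E))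
    (h1 : cr (normalizerIn S E) x e ∈ E) : x ∈ normalizerIn S E := by
  have := h.finite
  have hc := cr_mem_AutF F (NS_le S E) hx
  refine ⟨hx.1, maps_cp_iff.1 (((homOn_cp x E).maps_self fun y hy => ?_))⟩
  rw [cp_apply, ← cr_apply hx.2 (le_NS h.le hy)]
  refine HomOn.mem_of_sup (by rw [h.supE he he']; exact (homOn_of_AutF hc).mono (le_NS h.le))
    (fun y hy => ((h.mapsH hc).mem hy).1) ?_ y ((h.supE he he').ge hy)
  rintro _ ⟨i, rfl⟩
  rw [(homOn_of_AutF hc).map_zpow (le_NS h.le he)]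
  exact zpow_mem h1 i

theorem orb (he : e ∈ E) (he' : e ∉ Zs S 3) (hx : x ∈ normalizerIn S (normalizerIn S E)) (hx' : x ∉ normalizerIn S E)
    (hd : d ∈ Zs S 3) : ∃ n : ℕ, (e * d)⁻¹ * cr (normalizerIn S E) (x ^ n) e ∈ E ⊓ Zs S 3 := by
  have hN := le_NS h.le he
  have h1 := h.tvD c hx e hN
  have h2 : e⁻¹ * cr (normalizerIn S E) x e ∉ E ⊓ Zs S 3 := fun k =>
    hx' (h.nrm he he' hx ((mul_mem_cancel_left (inv_mem he)).1 k.1))
  have hn := h.Z3_le.trans h.chrH.le_normalizer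
  obtain ⟨b, hb, i, e1⟩ := exists_mul_zpow (h.iH c).dvd inf_le_right hn h1 h2 hd
  have h3 := pow_mem_of_relIndex (h.iH c).dvd hn h1
  refine ⟨(i % p).toNat, ?_⟩
  have h4 := (h.tvH c hx).pow_apply (homOn_of_AutF (cr_mem_AutF F (NS_le S E) hx)) inf_le_right h.Z3_le hN h1 (i % p).toNat
  rw [(homOn_cr _).map_pow hx.2]
  set u := e⁻¹ * cr (normalizerIn S E) x e
  have h5 : d⁻¹ * u ^ (i % p).toNat ∈ E ⊓ Zs S 3 := by
    have k : u ^ i = u ^ (i % p).toNat * (u ^ p) ^ (i / p) := by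
      rw [← zpow_natCast, Int.toNat_of_nonneg (Int.emod_nonneg _ (by exact_mod_cast hp.out.ne_zero)), ← zpow_natCast,
        ← zpow_mul, ← zpow_add, Int.emod_add_mul_ediv]
    rw [← e1, k, show (b * (u ^ (i % p).toNat * (u ^ p) ^ (i / p)))⁻¹ * u ^ (i % p).toNat = ((u ^ p) ^ (i / p))⁻¹ *
      ((u ^ (i % p).toNat)⁻¹ * b⁻¹ * u ^ (i % p).toNat) by group]
    exact mul_mem (inv_mem (zpow_mem h3 _)) (conj_inv_mem_of_mem_normalizer (hn (pow_mem h1 _)) (inv_mem hb))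
  have := mul_mem h5 h4
  rwa [show d⁻¹ * u ^ (i % p).toNat * ((e * u ^ (i % p).toNat)⁻¹ * (cr (normalizerIn S E) x ^ (i % p).toNat) e) =
    (e * d)⁻¹ * (cr (normalizerIn S E) x ^ (i % p).toNat) e by group] at this

theorem NN (hx : x ∈ normalizerIn S (normalizerIn S E)) (hx' : x ∉ normalizerIn S E) :
    normalizerIn S (normalizerIn S E) ≤ normalizerIn S E ⊔ zpowers x := fun y hy => by
  obtain ⟨e, he, he'⟩ := h.exists_e
  have hN := le_NS h.le he
  obtain ⟨n, hn⟩ := h.orb c he he' hx hx' (h.tvD c hy e hN)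
  have hc := cr_mem_AutF F (NS_le S E) (inv_mem hy)
  have k := h.nrm he he' (mul_mem (inv_mem hy) (pow_mem hx n)) (by
    rw [mul_inv_cancel_left] at hn
    have := (h.mapsH hc).mem hn
    rw [(homOn_of_AutF hc).map_inv_mul ((maps_of_AutF (cr_mem_AutF F (NS_le S E) hy)).mem hN)
      ((maps_of_AutF (cr_mem_AutF F (NS_le S E) (pow_mem hx n))).mem hN), (homOn_cr _).map_inv hy.2, perm_inv_apply] at this
    rw [homOn_cr _ _ (inv_mem hy.2) _ (pow_mem hx.2 n), Perm.mul_apply, (homOn_cr _).map_inv hy.2]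
    exact (mul_mem_cancel_left (inv_mem he)).1 this.1)
  have := mul_mem (mem_sup_right (S := normalizerIn S E) (pow_mem (mem_zpowers x) n)) (mem_sup_left (inv_mem k))
  simpa using this

theorem cNN : Nat.card (normalizerIn S (normalizerIn S E)) = p ^ 5 := by
  obtain ⟨x, hx, hx'⟩ := SetLike.exists_of_lt (lt_NS c.pg (h.ltS c))
  obtain ⟨e, he, he'⟩ := h.exists_e
  have hN := le_NS h.le he
  have h1 := h.tvD c hx e hN
  have h4 := (h.tvH c hx).pow_apply (homOn_of_AutF (cr_mem_AutF F (NS_le S E) hx)) inf_le_right h.Z3_le hN h1 p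
  have h3 := pow_mem_of_relIndex (h.iH c).dvd (h.Z3_le.trans h.chrH.le_normalizer) h1
  have k := h.nrm he he' (pow_mem hx p) (by
    rw [(homOn_cr _).map_pow hx.2]
    exact (mul_mem_cancel_left (inv_mem (mul_mem he h3.1))).1 h4.1)
  rw [le_antisymm (h.NN c hx hx') (sup_le (le_NS (NS_le S E)) (zpowers_le.2 hx)),
    PGrp.card_sup_zpowers hp.out hx.2 hx' k, h.cN, ← pow_succ]

theorem stabD (ha : a ∈ AutF F (normalizerIn S E)) : Maps a (Zs S 3) (Zs S 3) := by
  have := finite_of_le (Zs_le S 3)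
  have A := homOn_of_AutF ha
  refine (A.mono h.Z3_le).maps_self fun d hd => by_contra fun hc => ?_
  obtain ⟨x, hx, hx'⟩ := SetLike.exists_of_lt (lt_NS c.pg (h.ltS c))
  obtain ⟨e, he, he'⟩ := h.exists_e
  have hN := le_NS h.le he
  have hD := (NS_le S E).trans (le_normalizer_Zs S 3)
  have hd' := (maps_of_AutF ha).mem (h.Z3_le hd)
  obtain ⟨b, hb, i, e1⟩ := exists_mul_zpow (h.iD c).dvd h.Z3_le hD hd' hc hN
  obtain ⟨n, hn⟩ := h.orb c he he' hx hx' (d := e⁻¹ * b⁻¹ * e) (conj_inv_mem_of_mem_normalizer (hD hN) (inv_mem hb))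
  rw [show e * (e⁻¹ * b⁻¹ * e) = a d ^ i by rw [← e1]; group] at hn
  have hu := cr_mem_AutF F (NS_le S E) (pow_mem hx n)
  have hk := mul_mem (inv_mem ha) hu
  have K := homOn_of_AutF hk
  have k1 : (a⁻¹ * cr (normalizerIn S E) (x ^ n)) e ∈ Zs S 3 := by
    have := ((h.mapsH (inv_mem ha)).mem hn).2
    rw [(homOn_of_AutF (inv_mem ha)).map_inv_mul (zpow_mem hd' i) ((maps_of_AutF hu).mem hN),
      (homOn_of_AutF (inv_mem ha)).map_zpow hd', perm_inv_apply] at this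
    exact (mul_mem_cancel_left (inv_mem (zpow_mem hd i))).1 this
  have k2 : Maps (a⁻¹ * cr (normalizerIn S E) (x ^ n)) E (Zs S 3) :=
    (K.mono (le_NS h.le)).maps_of_card (fun y hy => HomOn.mem_of_sup (by rw [h.supE he he']; exact K.mono (le_NS h.le))
      (fun y hy => ((h.mapsH hk).mem hy).2) (by
        rintro _ ⟨i, rfl⟩
        rw [K.map_zpow hN]; exact zpow_mem k1 i) y ((h.supE he he').ge hy)) (by rw [c.cZ 3 c.m3, h.card])
  have := (fn_iff.1 h.fn).2 _ _ ⟨(iso_of_AutF (NS_le S E) hk).mor.mono (le_NS h.le), k2⟩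
  rw [show normalizerIn S (Zs S 3) = S from le_antisymm (NS_le _ _) (le_inf le_rfl (le_normalizer_Zs S 3))] at this
  exact (card_lt_card (h.ltS c)).not_ge this

theorem pcore (hx : x ∈ normalizerIn S (normalizerIn S E)) :
    cr (normalizerIn S E) x ∈ pCoreOf p (AutF F (normalizerIn S E)) := by
  have hP := c.pg.to_le (NS_le S E)
  have hc := cr_mem_AutF F (NS_le S E) hx
  have hH := h.leZ.trans (le_NS h.le)
  refine QA.three (AutF_le_AutOn F _) hP hc hH h.Z3_le (fun a ha => h.mapsH ha) (fun a ha => h.stabD c ha) (h.tvD c hx)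
    (h.tvH c hx) (mxe_tv h.sat (NS_le S E) hx hH (AutOn_le_Stab_Phi _ (AutF_le_AutOn F _ hc)) (h.mapsH hc)
      (hH.trans (le_normalizer_of_Phi_le hP le_rfl (Phi_le _))) ?_)
  rw [← inf_relIndex_right]
  exact relIndex_dvd_right (Z := ⊥) (by rw [relIndex_bot_left, h.cH]) bot_le inf_le_right fun e =>
    h.ne_one (mem_bot.1 (e.le ⟨commutator_le_Phi hP h.z_der, h.hz⟩))

theorem not_ess : ¬ F.IsEssential p (normalizerIn S E) := fun k => by
  have e : Es F p _ := ⟨h.sat, k⟩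
  obtain ⟨x, hx, hx'⟩ := e.exists_t
  exact hx' (e.mem_of_pCore hx (h.pcore c hx))

omit c in
theorem img (hk : Mor F (normalizerIn S E) k) : El3 F p (img k E) ∧ Maps k (normalizerIn S E) (normalizerIn S (img k E)) :=
  have hm := (hk.homOn.mono (le_NS h.le)).maps_img
  ⟨h.el.iso hk hm, fn_maps_NS h.fn hk hm⟩

theorem fnN : F.IsFullyNormalized (normalizerIn S E) := fn_iff.2 ⟨NS_le S E, fun f Q hf => by
  obtain ⟨h1, h2⟩ := h.img hf.mor
  obtain ⟨t', z', h'⟩ := h1.cf c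
  rw [hf.maps.unique h2, h'.cNN c, h.cNN c]⟩

theorem ext (ha : a ∈ AutF F E) (hz : a z ∈ E ⊓ Zs S 3) :
    ∃ g, Iso F g (normalizerIn S (normalizerIn S E)) (normalizerIn S (normalizerIn S E)) ∧ ∀ x ∈ E, g x = a x := by
  obtain ⟨g, h1, h2⟩ := h.ext_NS ha (h.cj_le ha hz)
  obtain ⟨k, h3, h4⟩ := h.sat.ext_pCore (h.fnN c) (fun x => h.pcore c) h1
  exact ⟨k, h3, fun x hx => (h4 x (le_NS h.le hx)).trans (h2 x hx)⟩

end Cf3

end Cfsg.Agent.Fus
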