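import Cfsg.Agent.MxE.D

/-! No elementary abelian essential subgroup of order `p ^ 3` in maximal class, `p ≥ 5` (helper26). -/

set_option autoImplicit false

namespace Cfsg.Agent.Fus

open Subgroup Cfsg Cfsg.Agent.Loc Equiv
open Cfsg.FusionSystem (normalizerIn centralizerIn)
open scoped commutatorElement

variable {Ω : Type*} [Group Ω] {S Γ E Q R W : Subgroup Ω} {p m k : ℕ} {F : FusionSystem S} {σ : Perm Ω}
  {t x y z e : Ω}

theorem mxe_left (hy : y ∈ normalizer (W : Set Ω)) (h : y⁻¹ * x ∈ W) : ∃ v ∈ W, v * y = x :=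
  ⟨y * (y⁻¹ * x) * y⁻¹, conj_mem_of_mem_normalizer hy h, by group⟩

theorem mxe_right (hy : y ∈ normalizer (W : Set Ω)) {v : Ω} (h : v ∈ W) (e : v * y = x) : y⁻¹ * x ∈ W := by
  rw [← e, ← mul_assoc]; exact conj_inv_mem_of_mem_normalizer hy h

theorem mxe_Z1 (hx : x ∈ S) (hy : y ∈ Zs S 1) : ⁅x, y⁆ ∈ (⊥ : Subgroup Ω) := Zs_zero S ▸ mxe_zs hx hy

theorem mxe_nb : S ≤ normalizer ((⊥ : Subgroup Ω) : Set Ω) := Zs_zero S ▸ le_normalizer_Zs S 0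

variable [hp : Fact p.Prime] [Finite S]

omit [Finite S] in
theorem mxe_inf (he : e ∈ S) (he' : e ∉ Zs S m) (hp' : e ^ p = 1) (hk : k ≤ m) (h1 : x ∈ Zs S k ⊔ zpowers e)
    (h2 : x ∈ Zs S m) : x ∈ Zs S k := by
  obtain ⟨u, hu, i, rfl⟩ := (PGrp.mem_sup_zpowers (le_normalizer_Zs S k he)).1 h1
  obtain ⟨c, rfl⟩ := PGrp.dvd_of_zpow_mem hp.out he' (hp' ▸ one_mem _) ((mul_mem_cancel_left (Zs_mono S hk hu)).1 h2)
  rwa [zpow_mul, zpow_natCast, hp', one_zpow, mul_one]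

omit [Finite S] in
theorem mxe_ne (h2 : p ≠ 2) : (-1 : ZMod p) ≠ 1 := fun e => by
  have : ((2 : ℕ) : ZMod p) = 0 := by
    rw [Nat.cast_ofNat, ← one_add_one_eq_two]; nth_rewrite 1 [← e]; exact neg_add_cancel 1
  exact h2 ((Nat.prime_dvd_prime_iff_eq hp.out Nat.prime_two).1 ((ZMod.natCast_eq_zero_iff 2 p).1 this))

namespace Cf3

variable (h : Cf3 F p E t z)
include h

theorem sig (hσ : σ ∈ AutF F E ⊓ FixP (Dz F E (E ⊓ Zs S 3))) (hz : σ z ∈ zpowers z) (hy : y ∈ E ⊓ Zs S 3) :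
    (y ^ (1 : ℤ))⁻¹ * σ y ∈ zpowers z := by
  obtain ⟨d, hd, i, rfl⟩ := h.decompZ hy
  have H := homOn_of_AutF hσ.1
  rw [H d hd.1 _ (zpow_mem h.hzP i), H.map_zpow h.hzP, hσ.2 d hd, zpow_one, mul_inv_rev, mul_assoc, inv_mul_cancel_left]
  exact mul_mem (inv_mem (zpow_mem (mem_zpowers z) i)) (zpow_mem hz i)

omit hp [Finite S] in
theorem sigz (hσ : σ ∈ AutF F E) {l : ℤ} (hz : σ z = z ^ l) (hy : y ∈ zpowers z) : (y ^ l)⁻¹ * σ y ∈ (⊥ : Subgroup Ω) := by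
  obtain ⟨i, rfl⟩ := hy
  simp only
  rw [(homOn_of_AutF hσ).map_zpow h.hzP, hz, ← zpow_mul, ← zpow_mul, mul_comm i, inv_mul_cancel]
  exact one_mem _

omit [Finite S] in
theorem z_mem (hy : y ∈ zpowers z) (h1 : y ≠ 1) (h2 : y ∈ W) : zpowers z ≤ W :=
  (zpowers_eq_of_mem h.hzp hy h1).ge.trans (zpowers_le.2 h2)

variable (c : MCl p S Γ m)
include c

theorem Z1_eq (hz : zpowers z ≤ Zs S 1) : zpowers z = Zs S 1 :=
  have := finite_of_le (Zs_le S 1)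
  eq_of_le_of_card_le hz (by rw [c.cZ 1 (by have := c.m3; omega), h.card_z, pow_one])

theorem H_eq (hC : E ≤ centralizerIn S (Zs S 2)) : E ⊓ Zs S 3 = Zs S 2 :=
  have := finite_of_le (inf_le_right.trans (Zs_le S 3) : E ⊓ Zs S 3 ≤ S)
  (eq_of_le_of_card_le (le_inf (h.el.Z2_le hC) (Zs_mono S (by omega))) (by
    rw [h.cH, c.cZ 2 (by have := c.m3; omega)])).symm

theorem caseA1 (h2 : p ≠ 2) (hC : E ≤ centralizerIn S (Zs S 2)) (hΓ : E ≤ Γ) : False := by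
  have m3 := c.m3
  have hZ2 := h.el.Z2_le hC
  obtain rfl : m = 3 := by
    by_contra hm
    have := h.finite
    have k1 : Zs S 4 ≤ normalizerIn S E := fun y hy => ⟨Zs_le S 4 hy, mem_normalizer_of_comm fun d hd =>
      hZ2 (comm_mem_symm (c.g2 d (hΓ hd) 2 (by omega) (by omega) y hy))⟩
    have k2 := eq_of_le_of_card_le k1 (by rw [h.cN, c.cZ 4 (by omega)])
    have := h.cNN c
    rw [← k2, show normalizerIn S (Zs S 4) = S from le_antisymm (NS_le _ _) (le_inf le_rfl (le_normalizer_Zs S 4)),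
      c.cS, Nat.pow_right_inj hp.out.one_lt] at this
    omega
  have hΓC : Γ ≤ centralizerIn S (Zs S 2) := by_contra fun k => by have := (c.g6 k).2.1; omega
  have eS : normalizerIn S (normalizerIn S E) = S := eq_of_le_of_card_le (NS_le _ _) (by rw [h.cNN c, c.cS])
  obtain ⟨g₀, hg₀⟩ := h.exists_far
  obtain ⟨σ, hσ, s1, s2⟩ := h.exists_neg hg₀
  obtain ⟨g, hg, eg⟩ := h.ext c hσ.1 (s1 ▸ inv_mem h.hz)
  rw [eS] at hg
  have G := hg.homOn
  have he := (maps_of_AutF hg₀.1).mem h.hzP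
  have he' : g₀ z ∉ Zs S 3 := fun k => h.far g₀ hg₀ ⟨he, k⟩
  set e := g₀ z
  have heS := h.le he
  have eN : normalizerIn S E = Γ := (h.supN he he').symm.trans (c.sup_m c.zle c.le c.ne (hΓ he) he')
  have hz1 : zpowers z = Zs S 1 := h.Z1_eq c (zpowers_le.2 (c.derΓ (eN ▸ h.z_der)))
  obtain ⟨s, hs, hs'⟩ := SetLike.exists_of_lt (lt_of_le_of_ne c.le c.ne)
  have iΓ := c.rel_of' c.zle c.le c.ne'
  obtain ⟨u, hu, α, e1⟩ := exists_mul_zpow iΓ c.le (le_normalizer_of_relIndex c.pg c.le iΓ) hs hs' (hg.mem hs)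
  have huS := c.le hu
  have a2 : ⁅s, e⁆ ∈ Zs S 3 := c.der ▸ commutator_mem_commutator hs heS
  have b2 : ⁅s, e⁆ ∉ Zs S 2 := fun k => hs' (c.g3' s hs e (hΓ he) he' k)
  have c2 := mxe_bil (le_normalizer_Zs S 2) hs heS huS (one_mem S) α (-1) (fun r hr => mxe_zs hr a2)
    (Zs_mono S (by omega) (c.derΓ (commutator_mem_commutator hu (mul_mem (one_mem _) (zpow_mem (hΓ he) _)))))
    (by simp)
  rw [e1, one_mul, zpow_neg_one, ← s2, ← eg e he, ← G.map_commutatorElement hs heS] at c2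
  set s₂ := ⁅s, e⁆
  have hs₂ := Zs_le S 3 a2
  obtain ⟨v, hv, e2⟩ := mxe_left (le_normalizer_Zs S 2 (zpow_mem hs₂ _)) c2
  have a3 : ⁅s, s₂⁆ ∈ Zs S 2 := mxe_zs hs a2
  have b3 : ⁅s, s₂⁆ ∉ Zs S 1 := fun k => hs' (c.g3 s hs 1 le_rfl le_rfl _ a2 b2 k)
  have c3 := mxe_bil (le_normalizer_Zs S 1) hs hs₂ huS (Zs_le S 2 hv) α (α * -1) (fun r hr => mxe_zs hr a3)
    (c.g2 u hu 1 le_rfl le_rfl _ (mul_mem (Zs_mono S (by omega) hv) (zpow_mem a2 _))) (mxe_zs hs hv)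
  rw [e1, e2, ← G.map_commutatorElement hs hs₂] at c3
  set s₃ := ⁅s, s₂⁆
  have hs₃ := Zs_le S 2 a3
  have d3 := h.sig hσ (s1 ▸ inv_mem (mem_zpowers z)) ((h.H_eq c hC).ge a3)
  rw [hz1, ← eg _ (hZ2 a3)] at d3
  have k3 := mxe_exp b3 (c.pow_lev (by omega) a3) c3 d3
  obtain ⟨w, hw, e3⟩ := mxe_left (le_normalizer_Zs S 1 (zpow_mem hs₃ _)) d3
  have a4 : ⁅s, s₃⁆ ∈ Zs S 1 := mxe_zs hs a3
  have b4 : ⁅s, s₃⁆ ∉ (⊥ : Subgroup Ω) := fun k => hs' (c.eq_C hΓC ▸ c.g4 s hs _ a3 b3 k)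
  have c4 := mxe_bil mxe_nb hs hs₃ huS (Zs_le S 1 hw) α 1 (fun r hr => mxe_Z1 hr a4)
    (commutatorElement_eq_one_iff_mul_comm.2 ((hΓC hu).2 _ (mul_mem (Zs_mono S (by omega) hw) (zpow_mem a3 _))).symm)
    (mxe_Z1 hs hw)
  rw [e1, e3, ← G.map_commutatorElement hs hs₃, eg _ (h.Z1_le a4)] at c4
  have k4 := mxe_exp b4 (Zs_zero S ▸ c.pow_lev (k := 0) (by omega) a4) c4
    (h.sigz hσ.1 (l := -1) (by rw [s1, zpow_neg_one]) (hz1.ge a4))
  push_cast at k3 k4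
  rw [mul_one] at k4
  rw [k4] at k3
  exact mxe_ne h2 (by linear_combination k3)

theorem caseB (h5 : 5 ≤ p) (hC : ¬ E ≤ centralizerIn S (Zs S 2)) : False := by
  have hΓ := h.el.le_Γ c hC
  have hΓC : ¬ Γ ≤ centralizerIn S (Zs S 2) := fun k => hC (hΓ.trans k)
  obtain ⟨-, m4, a, ha, b, hb, hab⟩ := c.g6 hΓC
  obtain ⟨g₀, hg₀⟩ := h.exists_far
  obtain ⟨σ, hσ, s1, s2⟩ := h.exists_two hg₀ (by omega)
  obtain ⟨g, hg, eg⟩ := h.ext c hσ.1 (s1 ▸ pow_mem h.hz 2)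
  have he := (maps_of_AutF hg₀.1).mem h.hzP
  have he' : g₀ z ∉ Zs S 3 := fun k => h.far g₀ hg₀ ⟨he, k⟩
  set e := g₀ z
  have heS := h.le he
  have heC : e ∉ centralizerIn S (Zs S 2) := fun k => hC ((h.supE he he').ge.trans
    (sup_le (inf_le_right.trans ((Zs_mono S c.m3).trans c.ZC)) (zpowers_le.2 k)))
  have hem : e ∉ Zs S m := fun k => heC (c.ZC k)
  have hNΓ : normalizerIn S E ≤ Γ := (h.supN he he').ge.trans (sup_le ((Zs_mono S c.m3).trans c.zle) (zpowers_le.2 (hΓ he)))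
  have hN : ∀ j, 1 ≤ j → j ≤ 3 → j + 2 ≤ m → Zs S (j + 2) ⊔ zpowers e ≤ normalizerIn S (normalizerIn S E) :=
    fun j h1 h2 h3 => sup_le (fun y hy => ⟨Zs_le S _ hy, mem_normalizer_of_comm fun d hd =>
      h.Z3_le (Zs_mono S h2 (comm_mem_symm (c.g2 d (hNΓ hd) j h1 h3 y hy)))⟩)
        (zpowers_le.2 (le_NS (NS_le S E) (le_NS h.le he)))
  have ccj : ∀ j ≤ m, Nat.card (Zs S j ⊔ zpowers e : Subgroup Ω) = p ^ (j + 1) := fun j hj => by
    rw [PGrp.card_sup_zpowers hp.out (le_normalizer_Zs S j heS) (fun k => hem (Zs_mono S hj k))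
      (h.ex e he ▸ one_mem _), c.cZ j hj, pow_succ]
  obtain rfl : m = 4 := by
    by_contra hm
    have := card_le_card (hN 3 (by omega) le_rfl (by omega))
    rw [ccj _ (by omega), h.cNN c, Nat.pow_le_pow_iff_right hp.out.one_lt] at this
    omega
  have eΓ := c.sup_m c.zle c.le c.ne (hΓ he) hem
  have eN : normalizerIn S (normalizerIn S E) = Γ :=
    (eq_of_le_of_card_le (hN 2 (by omega) (by omega) le_rfl) (by rw [ccj _ le_rfl, h.cNN c])).symm.trans eΓ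
  rw [eN] at hg
  have G := hg.homOn
  have hz1 : zpowers z = Zs S 1 := by
    obtain ⟨y, hy, hy'⟩ := c.exists_lev (k := 1) (by omega)
    exact h.Z1_eq c (h.z_mem (h.comm_z (h.Z3_le (Zs_mono S (by omega) hy)) he) (fun k => heC (c.g4 e heS y hy hy'
      (by rw [← commutatorElement_inv, k, inv_one]))) (comm_mem_symm (mxe_zs heS hy)))
  have haS := Zs_le S 4 ha
  have haΓ := c.zle ha
  have ha' : a ∉ Zs S 3 := fun k => hab (commutatorElement_eq_one_iff_mul_comm.2 (c.Z3ab k b hb).symm)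
  obtain ⟨f, hf, hf'⟩ : ∃ f ∈ Dz F E (E ⊓ Zs S 3), f ∉ Zs S 2 := by
    by_contra! k
    have := finite_of_le (Zs_le S 2)
    have k1 : E ⊓ Zs S 3 ≤ Zs S 2 := fun y hy => by
      obtain ⟨d, hd, i, rfl⟩ := h.decompZ hy
      exact mul_mem (k d hd) (zpow_mem (Zs_mono S (by omega) (hz1.le (mem_zpowers z))) i)
    have k2 := eq_of_le_of_card_le k1 (by rw [h.cH, c.cZ 2 (by omega)])
    exact hC (le_inf h.le (h.ab.trans (centralizer_anti (k2.ge.trans inf_le_left))))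
  have hfH := Dz_le F E _ hf
  have a1 : ⁅a, f⁆ ∈ Zs S 1 := c.g2 a haΓ 1 le_rfl (by omega) f hfH.2
  have b1 : ⁅a, f⁆ ∉ (⊥ : Subgroup Ω) := fun k => by
    obtain ⟨u, hu, i, rfl⟩ := c.dec (k := 2) (by omega) hfH.2 hf' hb
    exact hab (commutatorElement_eq_one_iff_commute.2 (Commute.mul_right ((c.ZC ha).2 u hu).symm
      ((commutatorElement_eq_one_iff_commute.1 k).zpow_right i)))
  have D : ∀ x ∈ Γ, ∀ y ∈ Γ, ⁅x, y⁆ ∈ Zs S 2 := fun x hx y hy => c.derΓ (commutator_mem_commutator hx hy)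
  have a2 := D a haΓ e (hΓ he)
  have b2 : ⁅a, e⁆ ∉ Zs S 1 := fun k => by
    have k1 : a ∈ normalizerIn S (normalizerIn S E) := eN ▸ haΓ
    have k2 := h.nrm he he' k1 (by
      rw [cr_apply k1.2 (le_NS h.le he), show a * e * a⁻¹ = ⁅a, e⁆ * e by rw [commutatorElement_def]; group]
      exact mul_mem (h.Z1_le k) he)
    exact ha' (mxe_inf heS hem (h.ex e he) (by omega) ((h.supN he he').ge k2) ha)
  have hga : g a ∈ Zs S 4 := by
    refine c.mem_m hΓC (hg.mem haΓ) (c.g4 _ (c.le (hg.mem haΓ)) _ a2 b2 ?_)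
    have k1 := (G.maps_commutator le_rfl le_rfl hg.maps hg.maps).inv_mem (commutator_mem_commutator haΓ (hΓ he))
    have k2 := c.derΓ k1
    rw [← perm_apply_inv g ⁅a, e⁆, ← G.map_commutatorElement haΓ (c.zle (Zs_mono S (by omega) k2)),
      commutatorElement_eq_one_iff_mul_comm.2 ((c.ZC ha).2 _ k2).symm, G.map_one]
  obtain ⟨u, hu, α, e1⟩ := c.dec (k := 3) (by omega) ha ha' hga
  have huS := Zs_le S 3 hu
  have c1 := mxe_bil mxe_nb haS (h.le hfH.1) huS (one_mem S) α 1 (fun r hr => mxe_Z1 hr a1)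
    (commutatorElement_eq_one_iff_mul_comm.2 (c.Z3ab hu _ (by simpa using hfH.2)).symm) (by simp)
  rw [e1, one_mul, zpow_one, ← hσ.2 f hf, ← eg f hfH.1, ← G.map_commutatorElement haΓ (hΓ hfH.1), eg f hfH.1, hσ.2 f hf,
    eg _ (h.Z1_le a1)] at c1
  have s1' : σ z = z ^ (2 : ℤ) := by rw [s1, zpow_ofNat]
  have pw : ∀ y ∈ Zs S 1, y ^ p ∈ (⊥ : Subgroup Ω) := fun y hy => Zs_zero S ▸ c.pow_lev (k := 0) (by omega) hy
  have k1 := mxe_exp b1 (pw _ a1) c1 (h.sigz hσ.1 s1' (hz1.ge a1))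
  have he1 := (maps_of_AutF hσ.1).mem he
  set e' := σ e with he''
  have he1S := h.le he1
  have hzz : (z ^ 2)⁻¹ ∈ Zs S 1 := inv_mem (pow_mem (hz1.le (mem_zpowers z)) 2)
  have ee : (z ^ 2)⁻¹ * e' ^ (2 : ℤ) = e := by rw [zpow_ofNat, s2, inv_mul_cancel_left]
  have a3 := D a haΓ e' (hΓ he1)
  have c2 := mxe_bil (le_normalizer_Zs S 1) haS he1S (one_mem S) (Zs_le S 1 hzz) 1 2 (fun r hr => mxe_zs hr a3)
    (by simp) (Zs_mono S (by omega) (mxe_zs (k := 0) haS hzz))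
  rw [ee, zpow_one, one_mul a] at c2
  have c3 := mxe_bil (le_normalizer_Zs S 1) haS he1S huS (one_mem S) α 1 (fun r hr => mxe_zs hr a3)
    (comm_mem_symm (c.g2 _ (by simpa using hΓ he1) 1 le_rfl (by omega) u hu)) (by simp)
  rw [e1, one_mul, zpow_one, he'', ← eg e he, ← G.map_commutatorElement haΓ (hΓ he), eg e he, ← he''] at c3
  set y := ⁅a, e⁆
  set y' := ⁅a, e'⁆
  have hy' := Zs_le S 2 a3
  obtain ⟨v, hv, e2⟩ := mxe_left (le_normalizer_Zs S 1 (zpow_mem hy' _)) c2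
  obtain ⟨w, hw, e3⟩ := mxe_left (le_normalizer_Zs S 1 (zpow_mem hy' _)) c3
  have a4 : ⁅y', e'⁆ ∈ Zs S 1 := comm_mem_symm (mxe_zs he1S a3)
  have c4 := mxe_bil mxe_nb hy' he1S (Zs_le S 1 hv) (Zs_le S 1 hzz) (1 * 2) 2 (fun r hr => mxe_Z1 hr a4)
    (comm_mem_symm (mxe_Z1 (by rw [ee]; exact heS) hv)) (mxe_Z1 hy' hzz)
  rw [e2, ee, mem_bot, inv_mul_eq_one] at c4
  have c5 := mxe_bil mxe_nb hy' he1S (Zs_le S 1 hw) (one_mem S) (α * 1) 1 (fun r hr => mxe_Z1 hr a4)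
    (comm_mem_symm (mxe_Z1 (by simpa using he1S) hw)) (by simp)
  have a5 : ⁅y, e⁆ ∈ Zs S 1 := comm_mem_symm (mxe_zs heS a2)
  rw [e3, one_mul, zpow_one, he'', ← eg e he, ← G.map_commutatorElement (c.zle (Zs_mono S (by omega) a2)) (hΓ he),
    eg e he, ← he'', eg _ (h.Z1_le a5)] at c5
  have c6 := h.sigz hσ.1 s1' (hz1.ge a5)
  nth_rewrite 1 [← c4] at c6
  rw [← zpow_mul] at c6
  have k2 := mxe_exp (fun k => heC (c.g4 e heS y a2 b2 (by
    rw [← commutatorElement_inv, ← c4, mem_bot.1 k, one_zpow, inv_one]))) (pw _ a4) c5 c6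
  push_cast at k1 k2
  have : ((6 : ℕ) : ZMod p) = 0 := by push_cast; linear_combination k1 - k2
  have := Nat.le_of_dvd (by omega) ((ZMod.natCast_eq_zero_iff 6 p).1 this)
  have k6 := (ZMod.natCast_eq_zero_iff 6 p).1 ‹_›
  interval_cases p
  · omega
  · exact absurd hp.out (by decide)

end Cf3

end Cfsg.Agent.Fus
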