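import Cfsg.Agent.MxE.E

/-! The remaining case `E = Z₂⟨e⟩`, `e ∉ Γ` (helper26). -/

set_option autoImplicit false

namespace Cfsg.Agent.Fus

open Subgroup Cfsg Cfsg.Agent.Loc Equiv
open Cfsg.FusionSystem (normalizerIn centralizerIn)
open scoped commutatorElement

variable {Ω : Type*} [Group Ω] {S Γ E Q R W : Subgroup Ω} {p m k : ℕ} {F : FusionSystem S} {σ : Perm Ω}
  {t x y z e : Ω} [hp : Fact p.Prime] [Finite S]

namespace Cf3

variable (h : Cf3 F p E t z) (c : MCl p S Γ m) (hC : E ≤ centralizerIn S (Zs S 2))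
include h c hC

theorem not_Γ (hΓ : ¬ E ≤ Γ) (he : e ∈ E) (he' : e ∉ Zs S 3) : e ∉ Γ := fun k => hΓ ((h.supE he he').ge.trans
  (sup_le (inf_le_right.trans ((Zs_mono S c.m3).trans c.zle)) (zpowers_le.2 k)))

omit [Finite S] hp in
theorem N_le : normalizerIn S E ≤ centralizerIn S (Zs S 2) :=
  h.hN.ge.trans (sup_le hC ((Zs_mono S c.m3).trans c.ZC))

theorem Z_eq (h1 : normalizerIn S E ≤ R) (h2 : R ≤ centralizerIn S (Zs S 2)) : Zs R 1 = Zs S 2 := by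
  rw [Zs_one]
  refine le_antisymm (fun y hy => ?_) (le_inf ((h.el.Z2_le hC).trans ((le_NS h.le).trans h1))
    (le_centralizer_iff.1 (h2.trans (CS_le_centralizer _ _))))
  have k := centralizer_anti h1 hy.2
  exact (h.H_eq c hC).le (h.ZN.le ⟨le_NS h.le (h.CS_le ⟨(h2 hy.1).1, centralizer_anti (le_NS h.le) k⟩), k⟩)

theorem ovr (hΓ : ¬ E ≤ Γ) (r : Es F p R) (h1 : normalizerIn S E ≤ R) : R = centralizerIn S (Zs S 2) := by
  obtain ⟨e, he, he'⟩ := h.exists_e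
  have heΓ := h.not_Γ c hC hΓ he he'
  have hem : e ∉ Zs S m := fun k => heΓ (c.zle k)
  have heR := h1 (le_NS h.le he)
  have heS := h.le he
  have m3 := c.m3
  have := r.finite
  have eC := c.sup_m c.ZC (CS_le _ _) c.cne (hC he) hem
  have hRC : R ≤ centralizerIn S (Zs S 2) := by
    have k : Zs S m ⊔ R ≠ S := fun k => r.lt.ne (eq_of_le_sup_Phi r.le (k.ge.trans (sup_le
      (le_sup_of_le_right (c.der ▸ commutator_le_Phi c.pg)) le_sup_left)))
    exact le_sup_right.trans ((c.sup_m le_sup_left (sup_le (Zs_le S m) r.le) k (mem_sup_right heR) hem).ge.trans eC.le)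
  have h3 := h.Z3_le.trans h1
  have h2 := (Zs_mono S (show 2 ≤ 3 by omega)).trans h3
  obtain ⟨k, k1, k2, k3, k4⟩ : ∃ k, 3 ≤ k ∧ k ≤ m ∧ Zs S k ≤ R ∧ (k < m → ¬ Zs S (k + 1) ≤ R) := by
    classical
    exact ⟨Nat.findGreatest (fun k => Zs S k ≤ R) m, Nat.le_findGreatest (P := fun k => Zs S k ≤ R) m3 h3,
      Nat.findGreatest_le m, Nat.findGreatest_spec (P := fun k => Zs S k ≤ R) m3 h3, fun k =>
        Nat.findGreatest_is_greatest (P := fun k => Zs S k ≤ R) (Nat.lt_succ_self _) k⟩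
  rcases eq_or_lt_of_le k2 with rfl | k5
  · exact le_antisymm hRC (eC.ge.trans (sup_le k3 (zpowers_le.2 heR)))
  exfalso
  have inf : ∀ y ∈ R, y ∈ Zs S m → y ∈ Zs S k := fun y hy hy' => by_contra fun k6 => by
    obtain ⟨j, j1, j2, j3, j4⟩ := MCl.level hy' k6
    exact k4 k5 ((Zs_mono S (by omega)).trans (c.lev_le r.le h2 heR heΓ j (by omega) j2 y hy j3 j4))
  rcases eq_or_lt_of_le k1 with rfl | k6
  · refine h.not_ess c (le_antisymm h1 (fun y hy => ?_) ▸ r.ess)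
    obtain ⟨u, hu, i, rfl⟩ := (PGrp.mem_sup_zpowers (le_normalizer_Zs S m heS)).1 (eC.ge (hRC hy))
    exact mul_mem (h.Z3_le (inf u ((mul_mem_cancel_right (zpow_mem heR i)).1 hy) hu)) (zpow_mem (le_NS h.le he) i)
  have z1 := h.Z_eq c hC h1 hRC
  have z2 := c.ucs hRC heR heΓ k3 k2 z1 2 (by omega) k6
  obtain ⟨s, hs, hs'⟩ := c.exists_lev k5
  have hsS := Zs_le S _ hs
  have hsn : s ∈ normalizerIn S R := ⟨hsS, mem_normalizer_of_comm fun d hd => k3 ((mem_Zs_succ.1 hs).2 d (r.le hd))⟩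
  have hc := r.cr_mem hsn
  have cZ : ∀ j, Chr R (Zs R j) := fun j => ⟨Zs_le R j, fun f a b => a.maps_Zs b j⟩
  have cB := (chr_Phi R).sup (cZ 1)
  have cC := (cZ 2).cen
  have hB : ∀ j, 2 ≤ j → j + 1 ≤ k → Zs S j ≤ Phi R ⊔ Zs R 1 := fun j hj => by
    induction j, hj using Nat.le_induction with
    | base => exact fun _ => le_sup_of_le_right z1.ge
    | succ j hj ih =>
      intro hj'
      obtain ⟨y, hy, hy'⟩ := c.exists_lev (k := j + 1) (by omega)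
      rw [← c.sup_lev (by omega) (mxe_zs heS hy) fun a => heΓ (c.g3 e heS j (by omega) (by omega) y hy hy' a)]
      exact sup_le (ih (by omega)) (zpowers_le.2 (mem_sup_left (commutator_le_Phi r.pg
        (commutator_mem_commutator heR (k3 (Zs_mono S hj' hy))))))
  refine k4 k5 ((c.sup_lev k5 hs hs').ge.trans (sup_le k3 (zpowers_le.2 (r.chain3 hsn cB.1 cC.1
    ((AutF_le_AutOn F R).trans cB.stab) ((AutF_le_AutOn F R).trans cC.stab)
    (tv_cr_of_comm hsn.2 le_rfl fun d hd => ?_) (tv_cr_of_comm hsn.2 cC.1 fun d hd => ?_) ?_))))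
  · have k7 := (mem_Zs_succ.1 hs).2 d (r.le hd)
    refine ⟨k3 k7, fun w hw => ?_⟩
    have := c.zz k k2 3 m3 _ k7 w (z2.le hw)
    rw [show k + 3 - (m + 2) = 0 by omega, Zs_zero, mem_bot] at this
    exact (commutatorElement_eq_one_iff_mul_comm.1 this).symm
  · obtain ⟨y, hy, hy'⟩ := c.exists_lev (k := 2) m3
    have k7 := inf d hd.1 (c.mem_m (c.not_le_of (hC he) heΓ) (c.g3 d (r.le hd.1) 1 le_rfl m3 y hy hy' (by
      rw [commutatorElement_eq_one_iff_mul_comm.2 (hd.2 y (z2.ge hy)).symm]; exact one_mem _)) (hRC hd.1))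
    obtain ⟨j, rfl⟩ : ∃ j, k = j + 1 := ⟨k - 1, by omega⟩
    exact hB j (by omega) le_rfl (mxe_zs hsS k7)
  · have n := (chr_Phi R).le_normalizer
    refine Tv.sup (tv_of_maps (AutOn_le_Stab_Phi R (AutF_le_AutOn F R hc))) (tv_of_fix (fun d hd => ?_) _)
      ((homOn_of_AutF hc).mono cB.1) ((Zs_le R 1).trans n) ((Phi_le R).trans n)
    rw [cr_apply hsn.2 (Zs_le R 1 hd), ← (c.ZC (Zs_mono S k5 hs)).2 d (z1.le hd), mul_inv_cancel_right]

theorem caseA2 (h5 : 5 ≤ p) (hΓ : ¬ E ≤ Γ) : False := by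
  have h2 : p ≠ 2 := by omega
  obtain ⟨g₀, hg₀⟩ := h.exists_far
  obtain ⟨σ, hσ, s1, s2⟩ := h.exists_neg hg₀
  obtain ⟨g₁, hg₁, eg₁⟩ := h.ext_NS hσ.1 (h.cj_le hσ.1 (s1 ▸ inv_mem h.hz))
  have cC : Chr S (centralizerIn S (Zs S 2)) := Chr.cen ⟨Zs_le S 2, fun f a b => a.maps_Zs b 2⟩
  obtain ⟨g, hg, eg₂⟩ := h.sat.ext_R (CS_le _ _) (fun g hg => cC.2 g hg.homOn hg.maps) (h.N_le c hC) hg₁.mor
    fun k R hk hR hkR => by
      obtain ⟨k1, k2⟩ := h.img hk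
      obtain ⟨t', z', h'⟩ := k1.cf c
      have k3 : Fus.img k E ≤ centralizerIn S (Zs S 2) := by_contra (h'.caseB c h5)
      refine h'.ovr c k3 (h'.caseA1 c h2 k3) ⟨h.sat, hR⟩ fun y hy => ?_
      obtain ⟨x, hx, rfl⟩ := k2.exists_eq hy
      exact hkR x hx
  have eg : ∀ x ∈ E, g x = σ x := fun x hx => (eg₂ x (le_NS h.le hx)).trans (eg₁ x hx)
  have G := hg.homOn
  have he := (maps_of_AutF hg₀.1).mem h.hzP
  have he' : g₀ z ∉ Zs S 3 := fun k => h.far g₀ hg₀ ⟨he, k⟩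
  set e := g₀ z
  have heS := h.le he
  have heΓ := h.not_Γ c hC hΓ he he'
  have hem : e ∉ Zs S m := fun k => heΓ (c.zle k)
  obtain ⟨⟨q, hq⟩, m4, a, ha, b, hb, hab⟩ := c.g6 (c.not_le_of (hC he) heΓ)
  have eC := c.sup_m c.ZC (CS_le _ _) c.cne (hC he) hem
  have z1 := h.Z_eq c hC (h.N_le c hC) le_rfl
  have mZ : ∀ j, 1 ≤ j → j + 2 ≤ m → Maps g (Zs S (j + 1)) (Zs S (j + 1)) := fun j j1 j2 =>
    c.ucs le_rfl (hC he) heΓ c.ZC le_rfl z1 j j1 j2 ▸ G.maps_Zs hg.maps j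
  have hM : ∀ j, Zs S j ⊔ zpowers e ≤ S := fun j => sup_le (Zs_le S j) (zpowers_le.2 heS)
  have n := le_normalizer_Zs S
  have pre : ∀ j, 1 ≤ j → j + 2 ≤ m → ∀ y ∈ Zs S (j + 2), y ∉ Zs S (j + 1) →
      ∃ u ∈ Zs S (j + 1) ⊔ zpowers e, ∃ α : ℤ, u * y ^ α = g y ∧ ⁅y, e⁆ ∈ Zs S (j + 1) ∧ ⁅y, e⁆ ∉ Zs S j ∧
        (⁅y, e⁆ ^ (α * -1))⁻¹ * g ⁅y, e⁆ ∈ Zs S j := fun j hj j2 y hy hy' => by
    have hyC := c.ZC (Zs_mono S j2 hy)
    have hyS := hyC.1
    have k1 : g y ∈ (Zs S (j + 1) ⊔ zpowers e) ⊔ zpowers y := by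
      rw [sup_right_comm, c.sup_lev j2 hy hy']
      rcases eq_or_lt_of_le j2 with k | k
      · rw [k, eC]; exact hg.mem hyC
      · exact mem_sup_left ((mZ _ (by omega) k).mem hy)
    have := finite_of_le (hM (j + 1))
    obtain ⟨u, hu, α, e1⟩ := (PGrp.mem_sup_zpowers (mem_normalizer_of_comm fun d hd =>
      mem_sup_left ((mem_Zs_succ.1 hy).2 d (hM _ hd)))).1 k1
    have a2 := comm_mem_symm (mxe_zs heS hy)
    refine ⟨u, hu, α, e1, a2, fun k => heΓ (c.g3 e heS j hj j2 y hy hy' (comm_mem_symm k)), ?_⟩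
    have c2 := mxe_bil (n j) hyS heS (hM _ hu) (one_mem S) α (-1) (fun r hr => mxe_zs hr a2)
      (commutator_le.1 (commutator_sup_left_le ((Zs_le S _).trans (n _)) ((zpowers_le.2 heS).trans (n _))
        ((commutator_mono le_rfl (zpowers_le.2 heS)).trans (commutator_Zs S _))
        (commutator_le_of_le_centralizer (le_centralizer_iff_isMulCommutative.2 inferInstance) _)) u hu _
          (mul_mem (one_mem _) (zpow_mem (mem_zpowers e) _))) (by simp)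
    rwa [e1, one_mul, zpow_neg_one, ← s2, ← eg e he, ← G.map_commutatorElement hyC (hC he)] at c2
  have key : ∀ j, 1 ≤ j → j + 2 ≤ m → ∀ y ∈ Zs S (j + 2), y ∉ Zs S (j + 1) →
      ∃ u ∈ Zs S (j + 1) ⊔ zpowers e, ∃ α : ℤ, u * y ^ α = g y ∧ (α : ZMod p) = (-1) ^ (j + 1) := fun j hj => by
    induction j, hj using Nat.le_induction with
    | base =>
      intro j2 y hy hy'
      obtain ⟨u, hu, α, e1, a2, b2, c2⟩ := pre 1 le_rfl j2 y hy hy'
      refine ⟨u, hu, α, e1, ?_⟩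
      have k2 := h.sigz hσ.1 (l := -1) (by rw [s1, zpow_neg_one]) (h.comm_z (h.Z3_le hy) he)
      rw [← eg _ (h.el.Z2_le hC a2)] at k2
      have k3 := mxe_exp b2 (c.pow_lev (by omega) a2) c2 (bot_le (a := Zs S 1) k2)
      push_cast at k3 ⊢
      linear_combination -k3
    | succ j hj ih =>
      intro j2 y hy hy'
      obtain ⟨u, hu, α, e1, a2, b2, c2⟩ := pre (j + 1) (by omega) j2 y hy hy'
      refine ⟨u, hu, α, e1, ?_⟩
      obtain ⟨u', hu', β, e2, k2⟩ := ih (by omega) _ a2 b2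
      have k3 : u' ∈ Zs S (j + 1) := mxe_inf heS hem (h.ex e he) (by omega) hu' (Zs_mono S (show j + 1 + 1 ≤ m by omega)
        ((mul_mem_cancel_right (zpow_mem a2 β)).1 (e2 ▸ (mZ (j + 1) (by omega) j2).mem a2)))
      have k4 := mxe_exp b2 (c.pow_lev (by omega) a2) c2 (mxe_right (n _ (zpow_mem (Zs_le S _ a2) β)) k3 e2)
      rw [k2] at k4
      push_cast at k4
      rw [pow_succ]
      linear_combination -k4
  have Z0 : ∀ j ≤ m, ∀ l ≤ m, j + l ≤ m + 2 → ∀ x ∈ Zs S j, ∀ y ∈ Zs S l, ⁅x, y⁆ = 1 := fun j hj l hl k x hx y hy => by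
    have := c.zz j hj l hl x hx y hy
    rwa [show j + l - (m + 2) = 0 by omega, Zs_zero, mem_bot] at this
  obtain ⟨r, rfl⟩ : ∃ r, m = r + 2 := ⟨m - 2, by omega⟩
  have hb' : b ∉ Zs S 2 := fun k => hab (Z0 _ le_rfl 2 (by omega) le_rfl a ha b k)
  obtain ⟨u, hu, α, e1, k1⟩ := key r (by omega) le_rfl a ha fun k => hab (Z0 _ (by omega) 3 c.m3 (by omega) a k b hb)
  obtain ⟨v, hv, β, e2, k2⟩ := key 1 le_rfl c.m3 b hb hb'
  have hgb := (mZ 2 (by omega) m4).mem hb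
  have hv' : v ∈ Zs S 2 := mxe_inf heS hem (h.ex e he) (by omega) hv (Zs_mono S c.m3
    ((mul_mem_cancel_right (zpow_mem hb β)).1 (e2 ▸ hgb)))
  have a1 : ⁅a, b⁆ ∈ Zs S 1 := by simpa using c.zz _ le_rfl 3 c.m3 a ha b hb
  have hz2 : zpowers z ≤ Zs S 2 := zpowers_le.2 ((h.H_eq c hC).le h.hz)
  have n : centralizerIn S (Zs S 2) ≤ normalizer (zpowers z : Set Ω) :=
    le_normalizer_of_le_centralizer ((CS_le_centralizer _ _).trans (centralizer_anti hz2))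
  have hZC : Zs S (r + 1) ≤ centralizerIn S (Zs S 2) := (Zs_mono S (by omega)).trans c.ZC
  have haC := c.ZC ha
  have hbC := c.ZC (Zs_mono S c.m3 hb)
  have c1 := mxe_bil n haC hbC (sup_le hZC (zpowers_le.2 (hC he)) hu) (h.N_le c hC (h.Z3_le (Zs_mono S (by omega) hv'))) α β
    (fun r hr => bot_le (a := zpowers z) (mxe_Z1 hr.1 a1))
    (commutator_le.1 (commutator_sup_left_le (C := Zs S 3) (hZC.trans n) ((zpowers_le.2 (hC he)).trans n)
      (commutator_le.2 fun x hx y hy => Z0 _ (by omega) 3 c.m3 (by omega) x hx y hy ▸ one_mem _)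
      (commutator_le.2 fun x hx y hy => comm_mem_symm (h.comm_z (h.Z3_le hy) (zpowers_le.2 he hx)))) u hu _ (e2 ▸ hgb))
    (Z0 _ le_rfl 2 (by omega) le_rfl a ha v hv' ▸ one_mem _)
  rw [e1, e2, ← G.map_commutatorElement haC hbC, eg _ (h.Z1_le a1)] at c1
  have c2 := h.sig hσ (s1 ▸ inv_mem (mem_zpowers z)) ⟨h.Z1_le a1, Zs_mono S (by omega) a1⟩
  have k3 := mxe_exp (fun k => heΓ (c.g3 e heS 1 le_rfl c.m3 b hb hb' (h.z_mem k hab a1
    (comm_mem_symm (h.comm_z (h.Z3_le hb) he))))) (h.ex _ (h.Z1_le a1) ▸ one_mem _) c1 c2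
  push_cast at k3
  rw [k1, k2, show r + 1 = 2 * (q - 1) + 1 by omega, pow_succ, pow_mul] at k3
  exact mxe_ne h2 (by linear_combination k3)

end Cf3

theorem El3.false (h : El3 F p E) (c : MCl p S Γ m) (h5 : 5 ≤ p) : False := by
  obtain ⟨t, z, h'⟩ := h.cf c
  have k : E ≤ centralizerIn S (Zs S 2) := by_contra (h'.caseB c h5)
  exact h'.caseA2 c k h5 (h'.caseA1 c (by omega) k)

end Cfsg.Agent.Fus
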